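import Cfsg.Agent.LangTorus.TorConj
import Cfsg.Agent.ChevTorus.Generators

/-!
# The block form of monomial elements, and their fixed spaces

A monomial element permutes the root coordinates with scalars and acts on the Cartan coordinates
through the Weyl group matrix; for an element of order three the dimension of the fixed space is
the rank of the fixed lattice plus the number of orbits with trivial scalar product.
-/

set_option autoImplicit false

namespace CfsgLib.AltSectEight57

open Cfsg.Lie CfsgLib.Chevalley CfsgLib.ChevTorus CfsgLib.TorusWeyl CfsgLib.LangTorus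
open scoped MatrixGroups Matrix

variable {D : ChevalleyDatum} {C : Weyl.Cert D.rank} {M : CoxeterMatrix (Fin D.rank)}
  {R : Weyl.RootTable} {K : Type*} [Field K]

/-- The block form of an element over a Weyl group element with scalars on the root coordinates. -/
structure IsBlock (h : Weyl.RootGood C M R) (g : GL D.Idx K) (w : M.Group) (a : Root D → K) :
    Prop where
  root : ∀ (v : D.Idx → K) (s : Root D),
    ((g : Matrix D.Idx D.Idx K) *ᵥ v) (Sum.inr (h.rootPerm w s)) = a s * v (Sum.inr s)
  cartan : ∀ (v : D.Idx → K) (i : Fin D.rank),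
    ((g : Matrix D.Idx D.Idx K) *ᵥ v) (Sum.inl i) =
      ∑ j, (wMat h w j i : K) * v (Sum.inl j)

theorem IsBlock.mul {h : Weyl.RootGood C M R} {g g' : GL D.Idx K} {w w' : M.Group}
    {a a' : Root D → K} (hg : IsBlock h g w a) (hg' : IsBlock h g' w' a') :
    IsBlock h (g * g') (w * w') (fun s => a (h.rootPerm w' s) * a' s) := by
  constructor
  · intro v s
    rw [Units.val_mul, ← Matrix.mulVec_mulVec, map_mul, Equiv.Perm.mul_apply, hg.root, hg'.root,
      mul_assoc]
  · intro v i
    rw [Units.val_mul, ← Matrix.mulVec_mulVec, hg.cartan, wMat_mul]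
    simp only [hg'.cartan, Finset.mul_sum, Matrix.mul_apply, Int.cast_sum, Int.cast_mul,
      Finset.sum_mul]
    rw [Finset.sum_comm]
    exact Finset.sum_congr rfl fun j _ => Finset.sum_congr rfl fun k _ => by ring

theorem isBlock_torC (h : Weyl.RootGood C M R) (c : Fin D.rank → Kˣ) :
    IsBlock h (torC D c) 1 (fun s => (torVal c (Sum.inr s) : K)) := by
  constructor
  · intro v s
    rw [map_one, Equiv.Perm.one_apply, coe_torC, Matrix.mulVec_diagonal]
  · intro v i
    rw [coe_torC, Matrix.mulVec_diagonal, wMat_one,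
      Finset.sum_eq_single i (fun j _ hj => by simp [hj]) (by simp)]
    simp [torVal]

theorem wMat_simple (hW : GoodWeyl D) (h : Weyl.RootGood C M R) (i₀ j i : Fin D.rank) :
    wMat h (M.simple i₀) j i =
      (if j = i then 1 else 0) - if i₀ = i then D.cartan j (pRoot hW i₀) else 0 := by
  have h1 := corootAt_rootPerm h (M.simple i₀) (pRoot hW j) i
  rw [Finset.sum_eq_single j, ← wPerm_eq_rootPerm hW h] at h1
  · rw [show Weyl.corootAt D (pRoot hW j : Root D) j = co D (pRoot hW j) j from rfl, co_pRoot,
      if_pos rfl, one_mul] at h1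
    rw [← h1]
    show co D (wPerm hW i₀ (pRoot hW j)) i = _
    rw [co_wPerm, co_pRoot, hW.pairing_pRoot]
  · intro k _ hk
    rw [show Weyl.corootAt D (pRoot hW j : Root D) k = co D (pRoot hW j) k from rfl, co_pRoot,
      if_neg (Ne.symm hk), zero_mul]
  · simp

theorem isBlock_nR (hW : GoodWeyl D) (h : Weyl.RootGood C M R) (i₀ : Fin D.rank) :
    IsBlock h (nR hW i₀ : GL D.Idx K) (M.simple i₀) (fun s => (eta D i₀ s : K)) := by
  constructor
  · intro v s
    rw [← wPerm_eq_rootPerm hW h, Matrix.mulVec, dotProduct, Fintype.sum_sum_type]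
    simp only [nR_apply hW, zero_mul, Finset.sum_const_zero, zero_add, ite_mul,
      (wPerm hW i₀).apply_eq_iff_eq, Finset.sum_ite_eq, Finset.mem_univ, if_true]
  · intro v i
    rw [Matrix.mulVec, dotProduct, Fintype.sum_sum_type]
    simp only [nR_apply hW, zero_mul, Finset.sum_const_zero, add_zero, wMat_simple hW h,
      Int.cast_sub, apply_ite (Int.cast : ℤ → K), Int.cast_one, Int.cast_zero]
    refine Finset.sum_congr rfl fun j _ => ?_
    congr 2
    · exact if_congr eq_comm rfl rfl
    · exact if_congr eq_comm rfl rfl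

theorem isBlock_nWord (hW : GoodWeyl D) (h : Weyl.RootGood C M R) :
    ∀ ω : List (Fin D.rank), ∃ a : Root D → K, (∀ s, a s * a s = 1) ∧
      IsBlock h (nWord hW K ω) (M.toCoxeterSystem.wordProd ω) a
  | [] => ⟨fun _ => 1, fun _ => one_mul 1, by
      have := isBlock_torC (K := K) h 1
      rw [show torC D (1 : Fin D.rank → Kˣ) = 1 from map_one (torHom D K)] at this
      simpa [nWord, torVal] using this⟩
  | i :: ω => by
    obtain ⟨a, ha, hb⟩ := isBlock_nWord hW h ω
    refine ⟨_, fun s => ?_, by
      rw [nWord_cons, CoxeterSystem.wordProd_cons, CoxeterMatrix.toCoxeterSystem_simple]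
      exact (isBlock_nR hW h i).mul hb⟩
    rw [mul_mul_mul_comm, ← Int.cast_mul, hW.eta_sq, Int.cast_one, one_mul, ha]

/-- Every monomial element has block form, with scalars squaring to those of a torus element. -/
theorem exists_block (hW : GoodWeyl D) (h : Weyl.RootGood C M R)
    (n : ↥(D.monomialSubgroup K)) :
    ∃ (c : Fin D.rank → Kˣ) (a : Root D → K),
      IsBlock h (n : GL D.Idx K) (weylHom hW h n) a ∧
        ∀ s, a s * a s = (torVal (c * c) (Sum.inr s) : K) := by
  obtain ⟨ω, -, hω⟩ := M.toCoxeterSystem.exists_isReduced (weylHom hW h n)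
  have hd : (nWord hW K ω)⁻¹ * (n : GL D.Idx K) ∈ D.diagonalSubgroup K := by
    have : (⟨nWord hW K ω, nWord_mem hW K ω⟩ : ↥(D.monomialSubgroup K))⁻¹ * n ∈
        (weylHom hW h).ker := by
      rw [MonoidHom.mem_ker, map_mul, map_inv, weylHom_nWord, ← hω, inv_mul_cancel]
    rw [ker_weylHom] at this
    exact this
  rw [diagonalSubgroup_eq_range hW] at hd
  obtain ⟨c, hc⟩ := hd
  obtain ⟨a, ha, hb⟩ := isBlock_nWord (K := K) hW h ω
  have := hb.mul (isBlock_torC h c)
  rw [show torC D c = (nWord hW K ω)⁻¹ * (n : GL D.Idx K) from hc, mul_inv_cancel_left,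
    mul_one, ← hω] at this
  refine ⟨c, _, this, fun s => ?_⟩
  rw [map_one, Equiv.Perm.one_apply, mul_mul_mul_comm, ha, one_mul, ← Units.val_mul]
  congr 1
  simp [torVal, mul_zpow, Finset.prod_mul_distrib]

/-! ### Fixed spaces -/

/-- The vectors fixed by a matrix. -/
def fixSp {ι : Type*} [Fintype ι] [DecidableEq ι] (g : GL ι K) : Submodule K (ι → K) :=
  LinearMap.eqLocus (Matrix.toLin' (g : Matrix ι ι K)) LinearMap.id

theorem mem_fixSp {ι : Type*} [Fintype ι] [DecidableEq ι] {g : GL ι K} {v : ι → K} :
    v ∈ fixSp g ↔ (g : Matrix ι ι K) *ᵥ v = v := by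
  simp [fixSp]

/-- The least point of a three-cycle. -/
def IsRep {n : ℕ} (π : Equiv.Perm (Fin n)) (s : Fin n) : Prop := s < π s ∧ s < π (π s)

theorem isRep_cases {n : ℕ} {π : Equiv.Perm (Fin n)} (hπ : ∀ s, π (π (π s)) = s) {s : Fin n}
    (hs : π s ≠ s) : IsRep π s ∨ IsRep π (π s) ∨ IsRep π (π (π s)) := by
  have h2 : π (π s) ≠ s := fun e => hs (by
    have := congrArg π e
    rw [hπ] at this
    exact this.symm)
  have h3 : π (π s) ≠ π s := fun e => hs (π.injective e)
  simp only [IsRep, hπ]
  rcases lt_or_gt_of_ne hs with a | a <;> rcases lt_or_gt_of_ne h2 with b | b <;>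
    rcases lt_or_gt_of_ne h3 with c | c
  all_goals first
    | exact Or.inl ⟨a, b⟩
    | exact Or.inr (Or.inl ⟨c, a⟩)
    | exact Or.inr (Or.inr ⟨b, c⟩)
    | (exfalso; omega)

/-- The fixed space of an element of order three in block form. -/
theorem finrank_fix_block {h : Weyl.RootGood C M R} {g : GL D.Idx K} {w : M.Group}
    {a : Root D → K} (hb : IsBlock h g w a) (h3 : (3 : K) ≠ 0)
    (hπ : ∀ s, h.rootPerm w (h.rootPerm w (h.rootPerm w s)) = s)
    (hprod : ∀ s, a (h.rootPerm w (h.rootPerm w s)) * a (h.rootPerm w s) * a s = 1)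
    {k : ℕ} (U : Fin k → Fin D.rank → ℤ) (V : Fin D.rank → Fin k → ℤ)
    (hU : ∀ l i, ∑ j, wMat h w j i * U l j = U l i)
    (hN : ∀ i j, (if i = j then 1 else 0) + wMat h w j i + ∑ l, wMat h w l i * wMat h w j l =
      ∑ m, V j m * U m i)
    (hVU : ∀ l m, ∑ j, U l j * V j m = if l = m then 3 else 0) :
    Module.finrank K (fixSp g) = k + Nat.card {s : Root D //
      IsRep (h.rootPerm w) s ∨ (h.rootPerm w s = s ∧ a s = 1)} := by
  classical
  set π := h.rootPerm w with hπdef
  let S := {s : Root D // IsRep π s ∨ (π s = s ∧ a s = 1)}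
  let Φ : fixSp g →ₗ[K] (Fin k → K) × (S → K) :=
    LinearMap.prod
      { toFun := fun v m => (3 : K)⁻¹ * ∑ j, (V j m : K) * (v : D.Idx → K) (Sum.inl j)
        map_add' := fun x y => funext fun m => by
          simp [Submodule.coe_add, mul_add, Finset.sum_add_distrib]
        map_smul' := fun r x => funext fun m => by
          simp [Finset.mul_sum, mul_left_comm] }
      { toFun := fun v s => (v : D.Idx → K) (Sum.inr (s : Root D))
        map_add' := fun _ _ => rfl
        map_smul' := fun _ _ => rfl }
  have hfix : ∀ v : fixSp g, (∀ s, (v : D.Idx → K) (Sum.inr (π s)) = a s * (v : D.Idx → K) (Sum.inr s)) ∧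
      ∀ i, (v : D.Idx → K) (Sum.inl i) =
        ∑ j, (wMat h w j i : K) * (v : D.Idx → K) (Sum.inl j) := fun v => by
    have e := mem_fixSp.1 v.2
    exact ⟨fun s => by rw [← hb.root, e], fun i => by rw [← hb.cartan, e]⟩
  have hinj : Function.Injective Φ := by
    rw [← LinearMap.ker_eq_bot, LinearMap.ker_eq_bot']
    intro v hv
    obtain ⟨hr, hc⟩ := hfix v
    have hv1 : ∀ m, (3 : K)⁻¹ * ∑ j, (V j m : K) * (v : D.Idx → K) (Sum.inl j) = 0 :=
      fun m => congrFun (congrArg Prod.fst hv) m
    have hv2 : ∀ s : S, (v : D.Idx → K) (Sum.inr (s : Root D)) = 0 :=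
      fun s => congrFun (congrArg Prod.snd hv) s
    have hv1' : ∀ m, ∑ j, (V j m : K) * (v : D.Idx → K) (Sum.inl j) = 0 := fun m =>
      (mul_eq_zero.1 (hv1 m)).resolve_left (inv_ne_zero h3)
    refine Subtype.ext (funext fun x => ?_)
    rcases x with i | s
    · have e : (3 : K) * (v : D.Idx → K) (Sum.inl i) =
          ∑ j, (((if i = j then 1 else 0) + wMat h w j i +
            ∑ l, wMat h w l i * wMat h w j l : ℤ) : K) * (v : D.Idx → K) (Sum.inl j) := by
        simp only [Int.cast_add, Int.cast_sum, Int.cast_mul, add_mul, Finset.sum_add_distrib,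
          Finset.sum_mul, apply_ite (Int.cast : ℤ → K), Int.cast_one, Int.cast_zero, ite_mul,
          one_mul, zero_mul, Finset.sum_ite_eq, Finset.mem_univ, if_true, ← hc]
        rw [Finset.sum_comm]
        simp only [mul_assoc, ← Finset.mul_sum, ← hc]
        ring
      have e2 : (3 : K) * (v : D.Idx → K) (Sum.inl i) = 0 := by
        rw [e]
        simp only [hN, Int.cast_sum, Int.cast_mul, Finset.sum_mul]
        rw [Finset.sum_comm]
        refine Finset.sum_eq_zero fun m _ => ?_
        have : ∀ j, (V j m : K) * (U m i : K) * (v : D.Idx → K) (Sum.inl j) =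
            (U m i : K) * ((V j m : K) * (v : D.Idx → K) (Sum.inl j)) := fun j => by ring
        simp only [this, ← Finset.mul_sum, hv1' m, mul_zero]
      exact (mul_eq_zero.1 e2).resolve_left h3
    · by_cases hs : π s = s
      · by_cases ha : a s = 1
        · exact hv2 ⟨s, Or.inr ⟨hs, ha⟩⟩
        · have := hr s
          rw [hs] at this
          by_contra hne
          exact ha (mul_right_cancel₀ hne (this.symm.trans (one_mul _).symm))
      · rcases isRep_cases hπ hs with h1 | h1 | h1
        · exact hv2 ⟨s, Or.inl h1⟩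
        · have h0 := hv2 ⟨_, Or.inl h1⟩
          rw [hr] at h0
          refine (mul_eq_zero.1 h0).resolve_left fun e => ?_
          have := hprod s
          rw [e, mul_zero] at this
          exact zero_ne_one this
        · have h0 := hv2 ⟨_, Or.inl h1⟩
          rw [hr, hr, ← mul_assoc] at h0
          refine (mul_eq_zero.1 h0).resolve_left fun e => ?_
          have := hprod s
          rw [mul_assoc, e, mul_zero] at this
          exact zero_ne_one this
  have hsurj : Function.Surjective Φ := by
    rintro ⟨x, f⟩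
    let F : Root D → K := fun t => if ht : IsRep π t ∨ (π t = t ∧ a t = 1) then f ⟨t, ht⟩ else 0
    let G : Root D → K := fun t => if π t = t then 0 else F t
    let u : Root D → K := fun t => F t + a (π (π t)) * G (π (π t)) +
      a (π (π t)) * a (π t) * G (π t)
    have hu : ∀ t, u (π t) = a t * u t := by
      intro t
      by_cases ht : π t = t
      · simp only [u, G, ht, if_true, mul_zero, add_zero]
        by_cases hS : IsRep π t ∨ (π t = t ∧ a t = 1)
        · rcases hS with h1 | h1
          · exact absurd h1.1 (by rw [ht]; exact lt_irrefl t)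
          · rw [h1.2, one_mul]
        · simp only [F, dif_neg hS, mul_zero]
      · have h1 : π (π t) ≠ π t := fun e => ht (π.injective e)
        have h2 : t ≠ π (π t) := fun e => ht (by rw [e, hπ]; exact e)
        have h3' : π t ≠ t := ht
        simp only [u, G, hπ, if_neg h1, if_neg h3', if_neg h2]
        linear_combination -(F (π t)) * hprod t
    have hin : ∀ t : S, u t = f t := by
      rintro ⟨t, ht⟩
      by_cases hfixt : π t = t
      · have z0 : G t = 0 := if_pos hfixt
        show F t + a (π (π t)) * G (π (π t)) + a (π (π t)) * a (π t) * G (π t) = f ⟨t, ht⟩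
        rw [show π (π t) = t by rw [hfixt, hfixt], show G (π t) = 0 by rw [hfixt]; exact z0, z0,
          mul_zero, mul_zero, add_zero, add_zero]
        exact dif_pos ht
      · have hrep : IsRep π t := ht.resolve_right fun e => hfixt e.1
        have z : ∀ y, (y = π t ∨ y = π (π t)) → G y = 0 := by
          intro y hy
          simp only [G, F]
          split_ifs with e1 e2
          · rfl
          · exfalso
            obtain ⟨p1, p2⟩ := hrep
            rcases e2 with ⟨q1, q2⟩ | q
            · rcases hy with rfl | rfl <;> rw [hπ] at * <;> omega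
            · exact e1 q.1
          · rfl
        simp only [u, z _ (Or.inl rfl), z _ (Or.inr rfl), mul_zero, add_zero, F, dif_pos ht]
    let v : D.Idx → K := Sum.elim (fun i => ∑ m, x m * (U m i : K)) u
    have hv : v ∈ fixSp g := by
      refine mem_fixSp.2 (funext fun y => ?_)
      rcases y with i | s
      · rw [hb.cartan]
        simp only [v, Sum.elim_inl, Finset.mul_sum]
        rw [Finset.sum_comm]
        refine Finset.sum_congr rfl fun m _ => ?_
        rw [← hU m i, Int.cast_sum, Finset.mul_sum]
        refine Finset.sum_congr rfl fun j _ => ?_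
        rw [Int.cast_mul]
        ring
      · obtain ⟨t, rfl⟩ := π.surjective s
        rw [hb.root]
        exact (hu t).symm
    refine ⟨⟨v, hv⟩, Prod.ext (funext fun m => ?_) (funext fun s => ?_)⟩
    · show (3 : K)⁻¹ * ∑ j, (V j m : K) * ∑ l, x l * (U l j : K) = x m
      simp only [Finset.mul_sum]
      rw [Finset.sum_comm]
      have : ∀ l, ∑ j, (3 : K)⁻¹ * ((V j m : K) * (x l * (U l j : K))) =
          (3 : K)⁻¹ * x l * ((∑ j, U l j * V j m : ℤ) : K) := fun l => by
        rw [Int.cast_sum, Finset.mul_sum]
        exact Finset.sum_congr rfl fun j _ => by rw [Int.cast_mul]; ring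
      simp only [this, hVU, apply_ite (Int.cast : ℤ → K), Int.cast_zero, mul_ite, mul_zero,
        Finset.sum_ite_eq', Finset.mem_univ, if_true]
      push_cast
      field_simp
    · exact hin s
  rw [(LinearEquiv.ofBijective Φ ⟨hinj, hsurj⟩).finrank_eq, Module.finrank_prod,
    Module.finrank_fintype_fun_eq_card, Module.finrank_fintype_fun_eq_card, Fintype.card_fin,
    Nat.card_eq_fintype_card]

end CfsgLib.AltSectEight57
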