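import Cfsg.Agent.AltSectEight57.Data
import Cfsg.Agent.Weyl.RootE8

/-!
# The finite tests behind the fixed spaces of elements of order three in E8
-/

set_option autoImplicit false

namespace CfsgLib.AltSectEight57

open Cfsg.Lie

/-- The image of a root under a packed permutation. -/
def pimg (T r : ℕ) : ℕ := (T >>> (8 * r)) % 256

/-- The image of a root under a word, leftmost letter applied last. -/
def walk (w : List ℕ) (r : ℕ) : ℕ := Weyl.rwalk Weyl.reflTableE8 w r

/-- Sums over eight indices. -/
def sum8 (f : ℕ → ℤ) : ℤ := f 0 + f 1 + f 2 + f 3 + f 4 + f 5 + f 6 + f 7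

/-- An entry of an integer table. -/
def ent (M : List (List ℤ)) (i j : ℕ) : ℤ := (M.getD i []).getD j 0

/-- A combination of the rows of a table. -/
def rowComb : List ℤ → List (List ℤ) → ℕ → ℤ
  | a :: as, u :: us, i => a * u.getD i 0 + rowComb as us i
  | _, _, _ => 0

/-- The number of moved orbits. -/
def triples (T : ℕ) : ℕ :=
  (List.range 240).countP fun r =>
    decide (r < pimg T r) && decide (r < pimg T (pimg T r))

/-- The fixed roots. -/
def fixedRoots (T : ℕ) : List ℕ := (List.range 240).filter fun r => pimg T r == r

/-- The residue modulo three. -/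
def res3 (a : ℤ) : ℕ := (a % 3).toNat

/-- Addition of residues modulo three along two lists. -/
def add3 : List ℕ → List ℕ → List ℕ
  | a :: as, b :: bs => (a + b) % 3 :: add3 as bs
  | as, _ => as

/-- Search over all combinations of columns modulo three. -/
def enum3 : List (List ℕ) → List ℕ → (List ℕ → Bool) → Bool
  | [], acc, f => f acc
  | col :: cs, acc, f =>
    enum3 cs acc f && (enum3 cs (add3 acc col) f && enum3 cs (add3 (add3 acc col) col) f)

/-- The column of the `l`-th coordinate: constraints, then fixed roots. -/
def Cert.col (C : Cert) (l : ℕ) : List ℕ :=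
  (C.V.map fun v => res3 (v.getD l 0)) ++ C.fix.map fun p => res3 (p.2.getD l 0)

/-- The admissible dimensions of fixed spaces. -/
def dimList : List ℕ := [248, 134, 92, 86, 80]

/-- The test on a combination. -/
def Cert.leaf (C : Cert) (acc : List ℕ) : Bool :=
  !((acc.take 8).all fun a => a == 0) ||
    dimList.contains (C.U.length + triples C.perm + (acc.drop 8).countP fun a => a == 0)

/-- The structural test. -/
def Cert.shapeOK (C : Cert) : Bool :=
  C.A.length == 8 && C.V.length == 8 &&
  (List.range 8).all (fun j => (List.range 8).all fun i =>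
    Weyl.corootAt chevE8 (pimg C.perm (chevE8.simple j)) i == ent C.A j i) &&
  C.U.all (fun u => u.length == 8 &&
    (List.range 8).all fun i => sum8 (fun j => ent C.A j i * u.getD j 0) == u.getD i 0) &&
  C.V.all (fun v => v.length == C.U.length) &&
  (List.range 8).all (fun j => (List.range 8).all fun i =>
    (if i = j then 1 else 0) + ent C.A j i + sum8 (fun l => ent C.A l i * ent C.A j l) ==
      rowComb (C.V.getD j []) C.U i) &&
  (List.range C.U.length).all (fun l => (List.range C.U.length).all fun m =>
    sum8 (fun j => ent C.U l j * ent C.V j m) == if l = m then 3 else 0) &&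
  (C.fix.map Prod.fst == fixedRoots C.perm) &&
  C.fix.all (fun p => p.2.length == C.U.length &&
    (List.range 8).all fun i => Weyl.corootAt chevE8 p.1 i == rowComb p.2 C.U i)

/-- The dimension test. -/
def Cert.dimOK (C : Cert) : Bool :=
  enum3 ((List.range C.U.length).map C.col) (List.replicate (8 + C.fix.length) 0) C.leaf

/-- The test of a certificate. -/
def Cert.ok (C : Cert) : Bool := C.shapeOK && C.dimOK

end CfsgLib.AltSectEight57
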