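import Cfsg.Agent.AltSectEight57.Check

/-!
# The identity: vectors modulo three descend to few representatives
-/

set_option autoImplicit false

namespace CfsgLib.AltSectEight57

open Cfsg.Lie

/-- The Cartan matrix of E8. -/
def cm8 : List (List ℤ) :=
  [[2, 0, -1, 0, 0, 0, 0, 0], [0, 2, 0, -1, 0, 0, 0, 0], [-1, 0, 2, -1, 0, 0, 0, 0],
   [0, -1, -1, 2, -1, 0, 0, 0], [0, 0, 0, -1, 2, -1, 0, 0], [0, 0, 0, 0, -1, 2, -1, 0],
   [0, 0, 0, 0, 0, -1, 2, -1], [0, 0, 0, 0, 0, 0, -1, 2]]

/-- The certificate of the identity. -/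
def idCert : Cert := certs0.getD 0 ⟨0, [], [], [], []⟩

/-- The coordinates of a root, read off the certificate. -/
def coI (r : ℕ) : List ℤ := (idCert.fix.getD r (0, [])).2

/-- A reflection on a vector modulo three. -/
def reflX (i : ℕ) (x : List ℕ) : List ℕ :=
  (List.range 8).map fun k => res3 ((x.getD k 0 : ℤ) - ent cm8 k i * (x.getD i 0 : ℤ))

/-- The code of a vector. -/
def code3 (x : List ℕ) : ℕ := x.foldl (fun a b => 3 * a + b) 0

/-- A descent in at most two steps. -/
def lower (x : List ℕ) : Bool :=
  (List.range 8).any fun i => decide (code3 (reflX i x) < code3 x) ||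
    (List.range 8).any fun k => decide (code3 (reflX k (reflX i x)) < code3 x)

/-- The scalar product of a coordinate row with a vector. -/
def dotX : List ℤ → List ℕ → ℤ
  | a :: as, b :: bs => a * b + dotX as bs
  | _, _ => 0

/-- The test on a vector. -/
def oneLeaf (x : List ℕ) : Bool :=
  lower x || dimList.contains (8 + idCert.fix.countP fun p => res3 (dotX p.2 x) == 0)

/-- All vectors. -/
def vecs3 : ℕ → List (List ℕ)
  | 0 => [[]]
  | n + 1 => (vecs3 n).flatMap fun x => [0 :: x, 1 :: x, 2 :: x]

/-- The reflections on coordinate rows. -/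
def reflRows : Bool :=
  (List.range 240).all fun r => (List.range 8).all fun i =>
    let s := coI (Weyl.rstep Weyl.reflTableE8 i r)
    (List.range 8).all fun k => s.getD k 0 ==
      (coI r).getD k 0 - if i = k then sum8 (fun l => (coI r).getD l 0 * ent cm8 l i) else 0

end CfsgLib.AltSectEight57
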