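import Cfsg.Agent.AltSectEight57.CheckOne

/-!
# The kernel runs the test for the identity
-/

set_option autoImplicit false

namespace CfsgLib.AltSectEight57

set_option maxHeartbeats 4000000

theorem vecs_ok : (vecs3 8).all oneLeaf = true := by decide +kernel

theorem idCert_shape : idCert.shapeOK = true := by decide +kernel

theorem reflRows_ok : reflRows = true := by decide +kernel

theorem idCert_perm : idCert.perm = elemTabs.getD 0 0 ∧ idCert.U.length = 8 ∧
    triples idCert.perm = 0 ∧ idCert.fix.map Prod.fst = List.range 240 ∧
    idCert.V = (List.range 8).map (fun k => (List.range 8).map fun l => if k = l then 3 else 0) := by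
  decide +kernel

end CfsgLib.AltSectEight57
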