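import Cfsg.Agent.AltSectEight57.Check

/-!
# The kernel runs the dimension tests, part 2
-/

set_option autoImplicit false

namespace CfsgLib.AltSectEight57

set_option maxHeartbeats 4000000

theorem certs2_ok : certs2.all Cert.ok = true := by decide +kernel

end CfsgLib.AltSectEight57
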