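import Cfsg.Agent.AltSectEight57.CheckOne

/-!
# The 243 permutations form the group generated by the five words
-/

set_option autoImplicit false

namespace CfsgLib.AltSectEight57

set_option maxHeartbeats 4000000

/-- A listed permutation. -/
def elemTab (k : ℕ) : ℕ := elemTabs.getD k 0

/-- The product of a generator and a listed permutation. -/
def stepAt (k g : ℕ) : ℕ := (stepTab.getD k []).getD g 0

/-- All certificates. -/
def allCerts : List Cert := idCert :: (certs1 ++ certs2)

/-- The signature of a packed permutation. -/
def sig8 (T : ℕ) : List ℕ := (List.range 8).map fun i => pimg T (Cfsg.Lie.chevE8.simple i)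

theorem genWords_ok : (List.range 5).all (fun g => (genWords.getD g []).all (fun i => i < 8) &&
    (List.range 240).all fun r => walk (genWords.getD g []) r == pimg (genTabs.getD g 0) r) = true := by
  decide +kernel

theorem steps_ok : (List.range 243).all (fun k => (List.range 5).all fun g => stepAt k g < 243 &&
    (List.range 240).all fun r =>
      pimg (elemTab (stepAt k g)) r == pimg (genTabs.getD g 0) (pimg (elemTab k) r)) = true := by
  decide +kernel

theorem elem_zero : (List.range 240).all (fun r => pimg (elemTab 0) r == r) = true := by
  decide +kernel

theorem pars_ok : (List.range 242).all (fun k =>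
    let p := parTab.getD k (0, 0)
    p.1 < 5 && p.2 < k + 1 && stepAt p.2 p.1 == k + 1) = true := by decide +kernel

theorem sigs_nodup : ((List.range 243).map fun k => sig8 (elemTab k)).Nodup := by decide +kernel

theorem cases_ok : (List.range 243).all (fun k =>
    ((List.range 240).any fun r =>
      pimg (elemTab k) (pimg (elemTab k) (pimg (elemTab k) r)) != r) ||
    allCerts.any fun C => C.perm == elemTab k) = true := by decide +kernel

end CfsgLib.AltSectEight57
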