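import Mathlib.GroupTheory.Sylow

/-!
# Lifting 3-subgroups and their normalisers over a kernel of order prime to three
-/

set_option autoImplicit false
set_option linter.style.haveILetI false

namespace CfsgLib.AltSectEight57

variable {H Q : Type*} [Group H] [Finite H] [Group Q] {π : H →* Q}
  (hk : ¬ 3 ∣ Nat.card π.ker)

theorem finite_of_le_range {B : Subgroup Q} (hB : B ≤ π.range) : Finite B :=
  Finite.of_surjective (fun x : B.comap π => (⟨π x, x.2⟩ : B)) fun b => by
    obtain ⟨x, hx⟩ := hB b.2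
    exact ⟨⟨x, show π x ∈ B by rw [hx]; exact b.2⟩, Subtype.ext hx⟩

include hk

theorem eq_one_of_ker {R : Subgroup H} (hR : IsPGroup 3 R) {x : H} (hx : x ∈ R) (hπ : π x = 1) :
    x = 1 := by
  haveI : Fact (Nat.Prime 3) := ⟨Nat.prime_three⟩
  obtain ⟨k, hk'⟩ := hR ⟨x, hx⟩
  have h1 : orderOf x ∣ 3 ^ k := orderOf_dvd_of_pow_eq_one (congrArg Subtype.val hk')
  obtain ⟨i, -, hi⟩ := (Nat.dvd_prime_pow Nat.prime_three).1 h1
  rcases i with _ | i
  · exact orderOf_eq_one_iff.1 hi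
  · refine absurd ?_ hk
    have h2 := orderOf_dvd_natCard (⟨x, MonoidHom.mem_ker.2 hπ⟩ : π.ker)
    rw [Subgroup.orderOf_mk, hi] at h2
    exact (dvd_pow_self 3 (Nat.succ_ne_zero i)).trans h2

theorem injOn_pGroup {R : Subgroup H} (hR : IsPGroup 3 R) {x y : H} (hx : x ∈ R) (hy : y ∈ R)
    (h : π x = π y) : x = y := by
  refine inv_mul_eq_one.1 (eq_one_of_ker hk hR (mul_mem (inv_mem hx) hy) ?_)
  rw [map_mul, map_inv, h, inv_mul_cancel]

theorem card_map_pGroup {R : Subgroup H} (hR : IsPGroup 3 R) :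
    Nat.card (R.map π) = Nat.card R :=
  (Nat.card_eq_of_bijective (π.subgroupMap R) ⟨fun x y h => Subtype.ext
    (injOn_pGroup hk hR x.2 y.2 (congrArg Subtype.val h)), π.subgroupMap_surjective R⟩).symm

theorem factorization_card_comap {B : Subgroup Q} (hB : B ≤ π.range) (hB3 : IsPGroup 3 B) :
    3 ^ (Nat.card (B.comap π)).factorization 3 = Nat.card B := by
  haveI : Fact (Nat.Prime 3) := ⟨Nat.prime_three⟩
  let g : B.comap π →* Q := π.comp (B.comap π).subtype
  have hr : g.range = B := by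
    rw [MonoidHom.range_comp, Subgroup.range_subtype, Subgroup.map_comap_eq_self hB]
  have hkc : Nat.card g.ker = Nat.card π.ker := by
    refine Nat.card_congr
      { toFun := fun x => ⟨((x : B.comap π) : H), x.2⟩
        invFun := fun x => ⟨⟨x, show π x ∈ B by rw [MonoidHom.mem_ker.1 x.2]; exact one_mem B⟩, x.2⟩
        left_inv := fun _ => rfl
        right_inv := fun _ => rfl }
  have e := Subgroup.card_mul_index g.ker
  rw [Subgroup.index_ker, hr, hkc] at e
  haveI : Finite B := finite_of_le_range hB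
  obtain ⟨n, hn⟩ := IsPGroup.iff_card.1 hB3
  rw [← e, hn, Nat.factorization_mul Nat.card_pos.ne' (pow_ne_zero _ (by norm_num)),
    Finsupp.add_apply, Nat.factorization_eq_zero_of_not_dvd hk, zero_add,
    Nat.factorization_pow_self Nat.prime_three]

/-- A 3-subgroup of the image lifts. -/
theorem exists_lift_subgroup {B : Subgroup Q} (hB : B ≤ π.range) (hB3 : IsPGroup 3 B) :
    ∃ R : Subgroup H, IsPGroup 3 R ∧ R.map π = B := by
  haveI : Fact (Nat.Prime 3) := ⟨Nat.prime_three⟩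
  let P : Sylow 3 (B.comap π) := default
  let R := (P : Subgroup (B.comap π)).map (B.comap π).subtype
  have hR : IsPGroup 3 R := P.2.map _
  have hle : R.map π ≤ B := by
    rintro _ ⟨x, hx, rfl⟩
    exact (Subgroup.map_subtype_le (P : Subgroup (B.comap π)) hx : x ∈ B.comap π)
  refine ⟨R, hR, ?_⟩
  haveI : Finite B := finite_of_le_range hB
  refine Subgroup.eq_of_le_of_card_ge hle ?_
  rw [card_map_pGroup hk hR, Subgroup.card_map_of_injective (B.comap π).subtype_injective,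
    P.card_eq_multiplicity, factorization_card_comap hk hB hB3]

/-- 3-subgroups with the same image are conjugate by the kernel. -/
theorem exists_conj_of_map_eq {R R' : Subgroup H} (hR : IsPGroup 3 R) (hR' : IsPGroup 3 R')
    (h : R'.map π = R.map π) :
    ∃ k ∈ π.ker, ∀ x ∈ R', k * x * k⁻¹ ∈ R := by
  haveI : Fact (Nat.Prime 3) := ⟨Nat.prime_three⟩
  set C := (R.map π).comap π
  have hRC : R ≤ C := fun x hx => ⟨x, hx, rfl⟩
  have hR'C : R' ≤ C := fun x hx => h.le ⟨x, hx, rfl⟩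
  have hB : R.map π ≤ π.range := Subgroup.map_le_range π R
  have hcard := factorization_card_comap hk hB (hR.map π)
  have c1 : Nat.card (R.subgroupOf C) = 3 ^ (Nat.card C).factorization 3 := by
    rw [Nat.card_congr (Subgroup.subgroupOfEquivOfLe hRC).toEquiv, hcard, card_map_pGroup hk hR]
  have c2 : Nat.card (R'.subgroupOf C) = 3 ^ (Nat.card C).factorization 3 := by
    rw [Nat.card_congr (Subgroup.subgroupOfEquivOfLe hR'C).toEquiv, hcard, ← h,
      card_map_pGroup hk hR']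
  obtain ⟨c, hc⟩ := MulAction.exists_smul_eq C (Sylow.ofCard _ c2) (Sylow.ofCard _ c1)
  have hcx : ∀ x ∈ R', (c : H) * x * (c : H)⁻¹ ∈ R := by
    intro x hx
    have : c * ⟨x, hR'C hx⟩ * c⁻¹ ∈ (c • Sylow.ofCard _ c2 : Sylow 3 C) :=
      ⟨⟨x, hR'C hx⟩, hx, rfl⟩
    rw [hc] at this
    exact this
  obtain ⟨r, hr, he⟩ := c.2
  refine ⟨r⁻¹ * c, ?_, fun x hx => ?_⟩
  · rw [MonoidHom.mem_ker, map_mul, map_inv, he, inv_mul_cancel]
  · rw [show r⁻¹ * (c : H) * x * (r⁻¹ * (c : H))⁻¹ = r⁻¹ * ((c : H) * x * (c : H)⁻¹) * r by group]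
    exact mul_mem (mul_mem (inv_mem hr) (hcx x hx)) hr

/-- Elements of 3-power order with the same image are conjugate. -/
theorem exists_conj_of_eq {x y : H} {a b : ℕ} (hx : x ^ 3 ^ a = 1) (hy : y ^ 3 ^ b = 1)
    (h : π x = π y) : ∃ k ∈ π.ker, k * x * k⁻¹ = y := by
  have hp : ∀ {z : H} {a : ℕ}, z ^ 3 ^ a = 1 → IsPGroup 3 (Subgroup.zpowers z) := fun {z a} hz w =>
    ⟨a, by
      obtain ⟨j, hj⟩ := w.2
      simp only at hj
      apply Subtype.ext
      rw [Subgroup.coe_pow, ← hj, Subgroup.coe_one, ← zpow_natCast, ← zpow_mul, mul_comm, zpow_mul,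
        zpow_natCast, hz, one_zpow]⟩
  have he : (Subgroup.zpowers x).map π = (Subgroup.zpowers y).map π := by
    rw [MonoidHom.map_zpowers, MonoidHom.map_zpowers, h]
  obtain ⟨k, hkk, hc⟩ := exists_conj_of_map_eq hk (hp hy) (hp hx) he
  refine ⟨k, hkk, injOn_pGroup hk (hp hy) (hc x (Subgroup.mem_zpowers x))
    (Subgroup.mem_zpowers y) ?_⟩
  rw [map_mul, map_mul, map_inv, MonoidHom.mem_ker.1 hkk, one_mul, inv_one, mul_one, h]

/-- Normalisers lift. -/
theorem exists_lift_normalizer {R : Subgroup H} (hR : IsPGroup 3 R) {h₀ : H}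
    (hn : ∀ x ∈ R, π h₀ * π x * (π h₀)⁻¹ ∈ R.map π) :
    ∃ h : H, π h = π h₀ ∧ ∀ x ∈ R, h * x * h⁻¹ ∈ R := by
  set R' := R.map (MulAut.conj h₀).toMonoidHom
  have hR' : IsPGroup 3 R' := hR.map _
  have hle : R'.map π ≤ R.map π := by
    rintro _ ⟨_, ⟨x, hx, rfl⟩, rfl⟩
    simpa using hn x hx
  haveI : Finite (R.map π) := finite_of_le_range (Subgroup.map_le_range π R)
  have heq : R'.map π = R.map π := Subgroup.eq_of_le_of_card_ge hle (by
    rw [card_map_pGroup hk hR, card_map_pGroup hk hR',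
      Subgroup.card_map_of_injective (MulAut.conj h₀).injective])
  obtain ⟨k, hkk, hc⟩ := exists_conj_of_map_eq hk hR hR' heq
  refine ⟨k * h₀, by rw [map_mul, MonoidHom.mem_ker.1 hkk, one_mul], fun x hx => ?_⟩
  rw [show k * h₀ * x * (k * h₀)⁻¹ = k * (h₀ * x * h₀⁻¹) * k⁻¹ by group]
  exact hc _ ⟨x, hx, rfl⟩

end CfsgLib.AltSectEight57
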