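import Cfsg.Agent.AltSectEight57.Perms

/-!
# Counting characters of six rotations, and the linear programme
-/

set_option autoImplicit false

namespace CfsgLib.AltSectEight57

set_option maxHeartbeats 4000000

/-- The size of the support. -/
def supp6 (x : V6) : Fin 7 :=
  ⟨(Finset.univ.filter fun i => x i ≠ 0).card, by
    have h := (Finset.univ.filter fun i => x i ≠ 0).card_le_univ
    simp only [Fintype.card_fin] at h
    omega⟩

/-- The weight of a given support size all of whose entries are one. -/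
def canon6 (w : Fin 7) : V6 := fun i => if 6 ≤ (i : ℕ) + w then 1 else 0

/-- The code of a vector. -/
def code6 (x : V6) : ℕ := ∑ i : Fin 6, (x i).val * 3 ^ (5 - (i : ℕ))

/-- The sum of the first `j` rotations. -/
def block6 (j : Fin 7) : V6 := fun i => if (i : ℕ) < j then 1 else 0

/-- A transposition of neighbours with a flip. -/
def swapFlip (i : Fin 5) (k : Fin 6) : Equiv.Perm (Fin 6) × (Fin 6 → Bool) :=
  (Equiv.swap i.castSucc i.succ, fun l => decide (l = k))

/-- Two flips. -/
def twoFlip (i k : Fin 6) : Equiv.Perm (Fin 6) × (Fin 6 → Bool) :=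
  (1, fun l => decide (l = i ∨ l = k))

/-- The moves. -/
def Move (g : Equiv.Perm (Fin 6) × (Fin 6 → Bool)) : Prop :=
  (∃ i k, g = swapFlip i k) ∨ ∃ i k, i ≠ k ∧ g = twoFlip i k

theorem sign_swapFlip : ∀ i k,
    Equiv.Perm.sign (mono (swapFlip i k).1 (swapFlip i k).2) = 1 := by decide +kernel

theorem Move.sign {g : Equiv.Perm (Fin 6) × (Fin 6 → Bool)} (h : Move g) :
    Equiv.Perm.sign (mono g.1 g.2) = 1 := by
  rcases h with ⟨i, k, rfl⟩ | ⟨i, k, hik, rfl⟩
  · exact sign_swapFlip i k
  · exact sign_flipTwo i k hik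

theorem descent6 : ∀ x : V6, x = canon6 (supp6 x) ∨
    (∃ i k, code6 (move (swapFlip i k).1 (swapFlip i k).2 x) < code6 x ∧
      supp6 (move (swapFlip i k).1 (swapFlip i k).2 x) = supp6 x) ∨
    ∃ i k, i ≠ k ∧ code6 (move (twoFlip i k).1 (twoFlip i k).2 x) < code6 x ∧
      supp6 (move (twoFlip i k).1 (twoFlip i k).2 x) = supp6 x := by decide +kernel

theorem exists_descent (x : V6) (hx : x ≠ canon6 (supp6 x)) :
    ∃ g, Move g ∧ code6 (move g.1 g.2 x) < code6 x ∧ supp6 (move g.1 g.2 x) = supp6 x := by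
  rcases descent6 x with h | ⟨i, k, h1, h2⟩ | ⟨i, k, hik, h1, h2⟩
  · exact absurd h hx
  · exact ⟨_, Or.inl ⟨i, k, rfl⟩, h1, h2⟩
  · exact ⟨_, Or.inr ⟨i, k, hik, rfl⟩, h1, h2⟩

/-- The number of weights of a support size. -/
def sizes6 (w : Fin 7) : ℕ := ![1, 12, 60, 160, 240, 192, 64] w

/-- The number of weights of a support size trivial on the first `j` rotations. -/
def fixNum (j w : Fin 7) : ℕ :=
  ![![1, 12, 60, 160, 240, 192, 64], ![1, 10, 40, 80, 80, 32, 0], ![1, 8, 26, 48, 64, 64, 32],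
    ![1, 6, 18, 46, 84, 72, 16], ![1, 4, 16, 56, 86, 56, 24], ![1, 2, 20, 60, 70, 70, 20],
    ![1, 0, 30, 40, 90, 60, 22]] j w

theorem sizes6_eq : ∀ w : Fin 7,
    (Finset.univ.filter fun x : V6 => supp6 x = w).card = sizes6 w := by decide +kernel

theorem fixNum_eq : ∀ j w : Fin 7,
    (Finset.univ.filter fun x : V6 => dot6 x (block6 j) = 0 ∧ supp6 x = w).card = fixNum j w := by
  decide +kernel

theorem card_filter_sum (P : V6 → Prop) [DecidablePred P] (n : Fin 7 → ℕ) :
    ∑ x ∈ Finset.univ.filter P, n (supp6 x) =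
      ∑ w, (Finset.univ.filter fun x : V6 => P x ∧ supp6 x = w).card * n w := by
  rw [← Finset.sum_fiberwise (Finset.univ.filter P) supp6]
  refine Finset.sum_congr rfl fun w _ => ?_
  rw [Finset.filter_filter, Finset.sum_congr rfl fun x hx => congrArg n (Finset.mem_filter.1 hx).2.2,
    Finset.sum_const, smul_eq_mul]

/-- The value of the programme on the given unknowns. -/
def lpVal (j : Fin 7) (b c d e f g : ℕ) : ℕ :=
  248 - (12 * b + 60 * c + 160 * d + 240 * e + 192 * f + 64 * g) +
    fixNum j 1 * b + fixNum j 2 * c + fixNum j 3 * d + fixNum j 4 * e + fixNum j 5 * f +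
      fixNum j 6 * g

theorem lp_check : ∀ b : Fin 21, ∀ c : Fin 5, ∀ d e f : Fin 2, ∀ g : Fin 4,
    12 * (b : ℕ) + 60 * c + 160 * d + 240 * e + 192 * f + 64 * g ≤ 248 →
      (∀ j : Fin 6, lpVal j.succ b c d e f g ∈ [134, 92, 86, 80]) →
        (b : ℕ) = 4 ∧ (c : ℕ) = 1 ∧ (d : ℕ) = 0 ∧ (e : ℕ) = 0 ∧ (f : ℕ) = 0 ∧ (g : ℕ) = 2 := by
  decide +kernel

/-- The only possible multiplicities. -/
theorem lp_unique (n : Fin 7 → ℕ) (h : ∑ w, sizes6 w * n w = 248)
    (hj : ∀ j : Fin 6, ∑ w, fixNum j.succ w * n w ∈ [134, 92, 86, 80]) :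
    n = ![12, 4, 1, 0, 0, 0, 2] := by
  have e : ∀ F : Fin 7 → ℕ, ∑ w, F w = F 0 + F 1 + F 2 + F 3 + F 4 + F 5 + F 6 := fun F => by
    simp only [Fin.sum_univ_seven]
  rw [e, show sizes6 0 = 1 from rfl, show sizes6 1 = 12 from rfl, show sizes6 2 = 60 from rfl,
    show sizes6 3 = 160 from rfl, show sizes6 4 = 240 from rfl, show sizes6 5 = 192 from rfl,
    show sizes6 6 = 64 from rfl] at h
  have h1 : ∀ j : Fin 7, fixNum j 0 = 1 := by decide
  obtain ⟨a, b, c, d, e', f⟩ := lp_check ⟨n 1, by omega⟩ ⟨n 2, by omega⟩ ⟨n 3, by omega⟩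
    ⟨n 4, by omega⟩ ⟨n 5, by omega⟩ ⟨n 6, by omega⟩ (by simp only; omega) fun j => by
      have := hj j
      rw [e, h1] at this
      simp only [lpVal]
      convert this using 1
      omega
  funext w
  fin_cases w <;> simp only [Fin.reduceFinMk] <;> simp_all <;> omega

/-- Weights giving independent fixed vectors of the three-cycle: orbit representatives and fixed
weights of full support. -/
def goodWeight (x : V6) : Prop :=
  (code6 x < code6 (move blockCycle (fun _ => false) x) ∧
      code6 x < code6 (move blockCycle (fun _ => false)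
        (move blockCycle (fun _ => false) x))) ∨
    FixSix x

instance (x : V6) : Decidable (goodWeight x) := inferInstanceAs (Decidable (_ ∨ _))

theorem goodWeight_sum :
    ∑ x ∈ Finset.univ.filter goodWeight, ![12, 4, 1, 0, 0, 0, 2] (supp6 x) = 88 := by
  decide +kernel

theorem goodWeight_orbit : ∀ x : V6,
    (FixSix x → move blockCycle (fun _ => false) x = x) ∧
    (goodWeight x → ¬ FixSix x → ¬ goodWeight (move blockCycle (fun _ => false) x) ∧
      ¬ goodWeight (move blockCycle (fun _ => false) (move blockCycle (fun _ => false) x))) := by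
  decide +kernel

end CfsgLib.AltSectEight57
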