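import Cfsg.Agent.AltSectEight57.CheckSeventeen

/-!
# The kernel tests points of the alcove, part A
-/

set_option autoImplicit false

namespace CfsgLib.AltSectEight57

set_option maxHeartbeats 4000000

theorem points17_0 : (pointsFrom 0).all (fun X => pointOK (idCert.fix.map Prod.snd) X) = true := by
  decide +kernel

theorem points17_1 : (pointsFrom 1).all (fun X => pointOK (idCert.fix.map Prod.snd) X) = true := by
  decide +kernel

end CfsgLib.AltSectEight57
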