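import Cfsg.Agent.AltSectEight57.CheckSeventeen

/-!
# The kernel tests points of the alcove, part B
-/

set_option autoImplicit false

namespace CfsgLib.AltSectEight57

set_option maxHeartbeats 4000000

theorem points17_2 : (pointsFrom 2).all (fun X => pointOK (idCert.fix.map Prod.snd) X) = true := by
  decide +kernel

theorem points17_3 : (pointsFrom 3).all (fun X => pointOK (idCert.fix.map Prod.snd) X) = true := by
  decide +kernel

theorem points17_4 : (pointsFrom 4).all (fun X => pointOK (idCert.fix.map Prod.snd) X) = true := by
  decide +kernel

theorem points17_5 : (pointsFrom 5).all (fun X => pointOK (idCert.fix.map Prod.snd) X) = true := by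
  decide +kernel

theorem points17_6 : (pointsFrom 6).all (fun X => pointOK (idCert.fix.map Prod.snd) X) = true := by
  decide +kernel

theorem points17_7 : (pointsFrom 7).all (fun X => pointOK (idCert.fix.map Prod.snd) X) = true := by
  decide +kernel

theorem points17_8 : (pointsFrom 8).all (fun X => pointOK (idCert.fix.map Prod.snd) X) = true := by
  decide +kernel

end CfsgLib.AltSectEight57
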