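import Cfsg.Agent.AltSectEight57.CheckSeventeen

/-!
# The kernel tests the walls
-/

set_option autoImplicit false

namespace CfsgLib.AltSectEight57

set_option maxHeartbeats 4000000

theorem walls_ok : wallData.all wallOK = true ∧ wallData.map Prod.fst = walls := by decide +kernel

theorem coI_theta : coI 239 = marks8.map fun m : ℕ => (m : ℤ) := by decide +kernel

theorem coI_simple : (List.range 8).all (fun j =>
    coI (walls.getD j 0) == (List.range 8).map fun i => if i = j then (1 : ℤ) else 0) = true := by
  decide +kernel

end CfsgLib.AltSectEight57
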