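import Cfsg.Agent.AltSectEight57.Semantics
import Cfsg.Agent.AltSectEight57.Walls17
import Cfsg.Agent.AltSectEight57.Points17A
import Cfsg.Agent.AltSectEight57.Points17B
import Mathlib.Algebra.BigOperators.Ring.Finset

/-!
# No exponent vector modulo seventeen has a multiset of root values invariant under tripling
-/

set_option autoImplicit false

namespace CfsgLib.AltSectEight57

/-- The value of an exponent vector on a root. -/
def val17 (s : Fin 8 → ZMod 17) (r : ℕ) : ZMod 17 :=
  ∑ j : Fin 8, ((coI r).getD j 0 : ZMod 17) * s j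

/-- The multiset of values is invariant under tripling. -/
def Tripled (s : Fin 8 → ZMod 17) : Prop :=
  ∃ π : Equiv.Perm (Fin 240), ∀ r, 3 * val17 s (π r : ℕ) = val17 s (r : ℕ)

theorem coI_length (r : Fin 240) : (coI r).length = 8 := by
  have hs := idCert_shape
  simp only [Cert.shapeOK, Bool.and_eq_true, List.all_eq_true, beq_iff_eq, List.mem_range] at hs
  rw [(hs.2 ((r : ℕ), coI r) (by
    rw [fix_eq]; exact List.mem_map.2 ⟨r, List.mem_range.2 r.isLt, rfl⟩)).1, idCert_perm.2.1]

theorem dotZ_eq : ∀ a b : List ℤ, a.length = 8 → b.length = 8 →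
    dotZ a b = ∑ j : Fin 8, a.getD j 0 * b.getD j 0
  | [a0, a1, a2, a3, a4, a5, a6, a7], [b0, b1, b2, b3, b4, b5, b6, b7], _, _ => by
    simp [dotZ, Fin.sum_univ_succ]

theorem dotI17_eq : ∀ (a : List ℤ) (b : List ℕ), a.length = 8 → b.length = 8 →
    dotI17 a b = ∑ j : Fin 8, a.getD j 0 * (b.getD j 0 : ℤ)
  | [a0, a1, a2, a3, a4, a5, a6, a7], [b0, b1, b2, b3, b4, b5, b6, b7], _, _ => by
    simp [dotI17, Fin.sum_univ_succ]

theorem reflCo_getD : ∀ (a b : List ℤ) (c : ℤ), a.length = 8 → b.length = 8 → ∀ j : Fin 8,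
    (reflCo a b c).getD j 0 = a.getD j 0 - c * b.getD j 0
  | [a0, a1, a2, a3, a4, a5, a6, a7], [b0, b1, b2, b3, b4, b5, b6, b7], c, _, _, j => by
    fin_cases j <;> simp [reflCo]

/-- The facts about a wall. -/
structure Wall (b : Fin 240) (av : List ℤ) : Prop where
  len : av.length = 8
  self : ∑ j : Fin 8, (coI b).getD j 0 * av.getD j 0 = 2
  perm : ∃ σ : Equiv.Perm (Fin 240), ∀ r : Fin 240, ∀ j : Fin 8, (coI (σ r : ℕ)).getD j 0 =
    (coI r).getD j 0 - (∑ i : Fin 8, (coI r).getD i 0 * av.getD i 0) * (coI b).getD j 0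
  quad : ∀ j : Fin 8, ∑ r : Fin 240,
    (∑ i : Fin 8, (coI r).getD i 0 * av.getD i 0) * (coI r).getD j 0 = 60 * (coI b).getD j 0

theorem exists_wall {b : ℕ} (hb : b ∈ walls) :
    ∃ (hb' : b < 240) (av : List ℤ), Wall ⟨b, hb'⟩ av := by
  obtain ⟨hall, hmap⟩ := walls_ok
  rw [← hmap] at hb
  obtain ⟨⟨b', av, T⟩, hw, rfl⟩ := List.mem_map.1 hb
  have h := List.all_eq_true.1 hall _ hw
  simp only [wallOK, Bool.and_eq_true, List.all_eq_true, List.mem_range, beq_iff_eq,
    decide_eq_true_eq] at h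
  obtain ⟨⟨⟨⟨⟨hlt, hlen⟩, -⟩, hself⟩, hT⟩, hquad⟩ := h
  refine ⟨hlt, av, ⟨hlen, ?_, ?_, fun j => ?_⟩⟩
  · rw [← dotZ_eq _ _ (coI_length ⟨b', hlt⟩) hlen]
    exact hself
  · let t : Fin 240 → Fin 240 := fun r => ⟨T.getD r 240, (hT r r.isLt).1.1⟩
    have ht : Function.Involutive t := fun r => Fin.ext (hT r r.isLt).1.2
    refine ⟨ht.toPerm t, fun r j => ?_⟩
    show (coI (T.getD r 240)).getD j 0 = _
    rw [(hT r r.isLt).2, reflCo_getD _ _ _ (coI_length r) (coI_length ⟨b', hlt⟩),
      dotZ_eq _ _ (coI_length r) hlen]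
  · rw [← hquad j j.isLt, fix_eq, List.map_map, ← List.sum_toFinset _ List.nodup_range,
      List.toFinset_range, Finset.sum_range]
    exact Finset.sum_congr rfl fun r _ => by
      simp only [Function.comp_apply, dotZ_eq _ _ (coI_length r) hlen]

/-- The reflection of an exponent vector. -/
def act17 (b : ℕ) (av : List ℤ) (s : Fin 8 → ZMod 17) : Fin 8 → ZMod 17 :=
  fun j => s j - val17 s b * (av.getD j 0 : ZMod 17)

theorem Wall.val_act {b : Fin 240} {av : List ℤ} (hw : Wall b av) :
    ∃ σ : Equiv.Perm (Fin 240), ∀ s r, val17 (act17 b av s) (r : Fin 240) = val17 s (σ r : ℕ) := by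
  obtain ⟨σ, hσ⟩ := hw.perm
  refine ⟨σ, fun s r => ?_⟩
  simp only [val17, act17, hσ, Int.cast_sub, Int.cast_mul, Int.cast_sum, mul_sub, sub_mul,
    Finset.sum_sub_distrib, Finset.mul_sum, Finset.sum_mul]
  congr 1
  rw [Finset.sum_comm]
  refine Finset.sum_congr rfl fun i _ => Finset.sum_congr rfl fun j _ => ?_
  ring

theorem Wall.act_eq_zero {b : Fin 240} {av : List ℤ} (hw : Wall b av) {s : Fin 8 → ZMod 17}
    (h : act17 b av s = 0) : s = 0 := by
  have h1 : ∀ j, s j = val17 s b * (av.getD j 0 : ZMod 17) := fun j => sub_eq_zero.1 (congrFun h j)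
  have h2 : val17 s b = val17 s b * 2 := by
    conv_lhs => rw [val17]
    have := congrArg (Int.cast : ℤ → ZMod 17) hw.self
    push_cast at this
    rw [← this, Finset.mul_sum]
    exact Finset.sum_congr rfl fun j _ => by rw [h1 j]; ring
  have h3 : val17 s b = 0 := by linear_combination -h2
  funext j
  rw [h1 j, h3, zero_mul]
  rfl

/-- The value of an integral point on a root. -/
def valX (X : Fin 8 → ℤ) (r : ℕ) : ℤ := ∑ j : Fin 8, (coI r).getD j 0 * X j

theorem Wall.quad_valX {b : Fin 240} {av : List ℤ} (hw : Wall b av) (Y : Fin 8 → ℤ) :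
    ∑ r : Fin 240, (∑ i : Fin 8, (coI r).getD i 0 * av.getD i 0) * valX Y r = 60 * valX Y b := by
  simp only [valX, Finset.mul_sum (a := (60 : ℤ))]
  rw [Finset.sum_congr rfl fun r _ => Finset.mul_sum _ _ _, Finset.sum_comm]
  refine Finset.sum_congr rfl fun j _ => ?_
  rw [← mul_assoc, ← hw.quad j, Finset.sum_mul]
  exact Finset.sum_congr rfl fun r _ => by ring

/-- Reduction of a point modulo seventeen. -/
def cast17 (X : Fin 8 → ℤ) : Fin 8 → ZMod 17 := fun j => (X j : ZMod 17)

theorem val17_cast (X : Fin 8 → ℤ) (r : ℕ) : val17 (cast17 X) r = (valX X r : ZMod 17) := by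
  simp [val17, valX, cast17]

theorem valX_simple (X : Fin 8 → ℤ) (j : Fin 8) : valX X (walls.getD j 0) = X j := by
  have h := coI_simple
  simp only [List.all_eq_true, List.mem_range, beq_iff_eq] at h
  rw [valX, h j j.isLt, Finset.sum_eq_single j]
  · simp
  · intro i _ hi
    have : (i : ℕ) ≠ j := fun e => hi (Fin.ext e)
    simp [this]
  · simp

theorem valX_theta (X : Fin 8 → ℤ) :
    valX X 239 = 2 * X 0 + 3 * X 1 + 4 * X 2 + 6 * X 3 + 5 * X 4 + 4 * X 5 + 3 * X 6 + 2 * X 7 := by
  rw [valX, coI_theta]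
  simp [marks8, Fin.sum_univ_eight]

theorem wall_cases {b : ℕ} (hb : b ∈ walls) :
    (∃ j : Fin 8, b = walls.getD j 0) ∨ b = 239 := by
  simp only [walls, List.mem_cons, List.not_mem_nil, or_false] at hb
  rcases hb with rfl | rfl | rfl | rfl | rfl | rfl | rfl | rfl | rfl
  exacts [Or.inl ⟨0, rfl⟩, Or.inl ⟨1, rfl⟩, Or.inl ⟨2, rfl⟩, Or.inl ⟨3, rfl⟩, Or.inl ⟨4, rfl⟩,
    Or.inl ⟨5, rfl⟩, Or.inl ⟨6, rfl⟩, Or.inl ⟨7, rfl⟩, Or.inr rfl]

theorem walls_getD_mem (j : Fin 8) : walls.getD j 0 ∈ walls := by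
  fin_cases j <;> decide

theorem descend17 (P : (Fin 8 → ZMod 17) → Prop)
    (hinv : ∀ (b : Fin 240) (av : List ℤ), Wall b av → ∀ s, P (act17 b av s) → P s)
    (hbase : ∀ X : Fin 8 → ℤ, (∀ j, 0 ≤ X j) → valX X 239 ≤ 17 → P (cast17 X)) : ∀ s, P s := by
  let Φ : (Fin 8 → ℤ) → ℤ := fun X =>
    ∑ r : Fin 240, (30 * valX X r - 17 * valX (fun _ => 1) r) ^ 2
  suffices h : ∀ (n : ℕ) (X : Fin 8 → ℤ), (Φ X).toNat = n → P (cast17 X) by
    intro s
    have := h _ (fun j => ((s j).val : ℤ)) rfl
    rwa [show cast17 (fun j => ((s j).val : ℤ)) = s from funext fun j => by simp [cast17]] at this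
  intro n
  induction n using Nat.strong_induction_on with
  | _ n ih =>
  intro X hX
  by_cases hw : (∀ j, 0 ≤ X j) ∧ valX X 239 ≤ 17
  · exact hbase X hw.1 hw.2
  obtain ⟨b, hbm, k, hk, hk'⟩ : ∃ b, b ∈ walls ∧ ∃ k : ℤ, (k : ZMod 17) = (valX X b : ZMod 17) ∧
      k * (k * 30 - 30 * valX X b + 17 * valX (fun _ => 1) b) < 0 := by
    by_cases h1 : ∀ j, 0 ≤ X j
    · have h2 : ¬ valX X 239 ≤ 17 := fun h2 => hw ⟨h1, h2⟩
      refine ⟨239, by decide, valX X 239 - 17, by push_cast; rw [show (17 : ZMod 17) = 0 from rfl,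
        sub_zero], ?_⟩
      rw [valX_theta (fun _ => 1),
        show (valX X 239 - 17) * 30 - 30 * valX X 239 +
          17 * (2 * 1 + 3 * 1 + 4 * 1 + 6 * 1 + 5 * 1 + 4 * 1 + 3 * 1 + 2 * 1) = (-17 : ℤ) by ring]
      omega
    · push Not at h1
      obtain ⟨j, hj⟩ := h1
      refine ⟨walls.getD j 0, walls_getD_mem j, valX X (walls.getD j 0), rfl, ?_⟩
      rw [valX_simple, valX_simple,
        show X j * 30 - 30 * X j + 17 * 1 = (17 : ℤ) by ring]
      omega
  obtain ⟨hlt, av, hwall⟩ := exists_wall hbm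
  let X' : Fin 8 → ℤ := fun j => X j - k * av.getD j 0
  have hcast : cast17 X' = act17 (⟨b, hlt⟩ : Fin 240) av (cast17 X) := by
    funext j
    simp [X', cast17, act17, val17_cast, hk]
  apply hinv ⟨b, hlt⟩ av hwall
  rw [← hcast]
  refine ih _ ?_ X' rfl
  let aR : Fin 240 → ℤ := fun r => ∑ i : Fin 8, (coI r).getD i 0 * av.getD i 0
  have hV : ∀ r : Fin 240, valX X' r = valX X r - k * aR r := fun r => by
    simp only [valX, X', mul_sub, Finset.sum_sub_distrib, aR, Finset.mul_sum]
    exact congrArg₂ _ rfl (Finset.sum_congr rfl fun j _ => by ring)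
  have hq : ∀ Y, ∑ r : Fin 240, aR r * valX Y r = 60 * valX Y b := hwall.quad_valX
  have haa : ∑ r : Fin 240, aR r * aR r = 120 := by
    have e : ∀ r : ℕ, valX (fun j : Fin 8 => av.getD j 0) r =
        ∑ i : Fin 8, (coI r).getD i 0 * av.getD i 0 := fun r => rfl
    have := hq fun j : Fin 8 => av.getD j 0
    simp only [e] at this
    rw [this, hwall.self]
    norm_num
  have hΔ : Φ X' = Φ X + 120 * 30 * (k * (k * 30 - 30 * valX X b + 17 * valX (fun _ => 1) b)) := by
    have e : ∀ r : Fin 240, (30 * valX X' r - 17 * valX (fun _ => 1) r) ^ 2 =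
        (30 * valX X r - 17 * valX (fun _ => 1) r) ^ 2 +
        ((-2 * 30 * k * 30) * (aR r * valX X r) + (2 * 30 * k * 17) * (aR r * valX (fun _ => 1) r) +
          (30 * k * 30 * k) * (aR r * aR r)) := fun r => by rw [hV]; ring
    simp only [Φ, e, Finset.sum_add_distrib, ← Finset.mul_sum, hq, haa]
    ring
  have h0 : 0 ≤ Φ X' := Finset.sum_nonneg fun r _ => sq_nonneg _
  omega

theorem mem_points : ∀ (m l : List ℕ) (n : ℕ), (∀ x ∈ m, 0 < x) → l.length = m.length →
    (List.zipWith (· * ·) m l).sum ≤ n → l ∈ points m n := by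
  intro m
  induction m with
  | nil => intro l n _ hl _; simp at hl; simp [hl, points]
  | cons a m ih =>
    intro l n hp hl hd
    cases l with
    | nil => simp at hl
    | cons x l =>
      simp only [List.zipWith_cons_cons, List.sum_cons] at hd
      have ha := hp a List.mem_cons_self
      simp only [points, List.mem_flatMap, List.mem_range, List.mem_map]
      refine ⟨x, ?_, l, ih l _ (fun y hy => hp y (List.mem_cons_of_mem _ hy)) (by simpa using hl)
        (by omega), rfl⟩
      exact Nat.lt_succ_of_le ((Nat.le_div_iff_mul_le ha).2 (by rw [mul_comm]; omega))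

theorem pointOK_all {X : List ℕ} (hl : X.length = 8)
    (hd : (List.zipWith (· * ·) marks8 X).sum ≤ 17) :
    pointOK (idCert.fix.map Prod.snd) X = true := by
  obtain ⟨x, t, rfl⟩ : ∃ x t, X = x :: t := by
    cases X with
    | nil => simp at hl
    | cons x t => exact ⟨x, t, rfl⟩
  have hd' : 2 * x + (List.zipWith (· * ·) marks8.tail t).sum ≤ 17 := by
    simpa [marks8] using hd
  have hmem : (x :: t) ∈ pointsFrom x :=
    List.mem_map.2 ⟨t, mem_points marks8.tail t _ (by decide) (by simpa [marks8] using hl) (by omega),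
      rfl⟩
  have hx : x ≤ 8 := by omega
  interval_cases x
  exacts [List.all_eq_true.1 points17_0 _ hmem, List.all_eq_true.1 points17_1 _ hmem,
    List.all_eq_true.1 points17_2 _ hmem, List.all_eq_true.1 points17_3 _ hmem,
    List.all_eq_true.1 points17_4 _ hmem, List.all_eq_true.1 points17_5 _ hmem,
    List.all_eq_true.1 points17_6 _ hmem, List.all_eq_true.1 points17_7 _ hmem,
    List.all_eq_true.1 points17_8 _ hmem]

/-- Only the zero vector has a multiset of values invariant under tripling. -/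
theorem eq_zero_of_tripled (s : Fin 8 → ZMod 17) : Tripled s → s = 0 := by
  refine descend17 (fun s => Tripled s → s = 0) (fun b av hw s hP hs => ?_) (fun X h0 h17 hX => ?_) s
  · refine hw.act_eq_zero (hP ?_)
    obtain ⟨σ, hσ⟩ := hw.val_act
    obtain ⟨π, hπ⟩ := hs
    refine ⟨σ.trans (π.trans σ.symm), fun r => ?_⟩
    rw [hσ, hσ, Equiv.trans_apply, Equiv.trans_apply, Equiv.apply_symm_apply, hπ]
  · obtain ⟨π, hπ⟩ := hX
    let l : List ℕ := List.ofFn fun j : Fin 8 => (X j).toNat
    have hl : ∀ j : Fin 8, (l.getD j 0 : ℤ) = X j := fun j => by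
      rw [List.getD_eq_getElem _ _ (by simp [l]), List.getElem_ofFn]
      exact Int.toNat_of_nonneg (h0 j)
    have hd : (List.zipWith (· * ·) marks8 l).sum ≤ 17 := by
      rw [valX_theta] at h17
      simp [l, marks8, List.ofFn_succ]
      have := h0 0; have := h0 1; have := h0 2; have := h0 3
      have := h0 4; have := h0 5; have := h0 6; have := h0 7
      omega
    have h := pointOK_all (X := l) (by simp [l]) hd
    rw [pointOK, Bool.or_eq_true] at h
    rcases h with h | h
    · funext j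
      simp only [List.all_eq_true, beq_iff_eq] at h
      have := h (l.getD j 0) (by
        rw [List.getD_eq_getElem _ _ (by simp [l])]; exact List.getElem_mem _)
      show (X j : ZMod 17) = 0
      rw [← hl, this]
      rfl
    · exfalso
      simp only [histFails, List.any_eq_true, bne_iff_ne] at h
      obtain ⟨a, ha, hne⟩ := h
      have ha17 : a < 17 := by
        simp only [List.mem_cons, List.not_mem_nil, or_false] at ha
        omega
      have key : ∀ c < 17, (vals17 (idCert.fix.map Prod.snd) l).countP (fun x => x == c) =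
          (Finset.univ.filter fun r : Fin 240 => val17 (cast17 X) r = (c : ZMod 17)).card := by
        intro c hc
        rw [vals17, fix_eq, List.map_map, List.map_map, List.countP_map, countP_range_eq]
        refine congrArg Finset.card (Finset.filter_congr fun r _ => ?_)
        simp only [Function.comp_apply, beq_iff_eq]
        have e : dotI17 (coI r) l = valX X r := by
          rw [dotI17_eq _ _ (coI_length r) (by simp [l])]
          exact Finset.sum_congr rfl fun j _ => by rw [hl]
        rw [e, val17_cast, ← Int.cast_natCast (R := ZMod 17) c, ZMod.intCast_eq_intCast_iff']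
        have := Int.emod_nonneg (valX X r) (show (17 : ℤ) ≠ 0 by norm_num)
        omega
      refine hne ?_
      rw [key a ha17, key (3 * a % 17) (Nat.mod_lt _ (by norm_num)), ZMod.natCast_mod,
        Nat.cast_mul, Nat.cast_ofNat]
      refine Finset.card_bij (fun r _ => π.symm r) ?_ (fun p _ q _ e => π.symm.injective e) ?_
      · intro r hr
        simp only [Finset.mem_filter, Finset.mem_univ, true_and] at hr ⊢
        rw [← hπ (π.symm r), Equiv.apply_symm_apply, hr]
      · intro q hq
        simp only [Finset.mem_filter, Finset.mem_univ, true_and] at hq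
        refine ⟨π q, ?_, π.symm_apply_apply q⟩
        rw [Finset.mem_filter]
        refine ⟨Finset.mem_univ _, ?_⟩
        have h3 : (6 : ZMod 17) * 3 = 1 := rfl
        have := hπ q
        rw [hq] at this
        calc val17 (cast17 X) (π q : ℕ) = 6 * (3 * val17 (cast17 X) (π q : ℕ)) := by
              rw [← mul_assoc, h3, one_mul]
          _ = _ := by rw [this, ← mul_assoc, h3, one_mul]

end CfsgLib.AltSectEight57
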