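import Mathlib.LinearAlgebra.Dimension.Constructions
import Mathlib.LinearAlgebra.FiniteDimensional.Basic
import Mathlib.Tactic.LinearCombination
import Mathlib.Tactic.Abel
import Mathlib.Tactic.Module

/-!
# Two commuting operators of order three turned by an element of order four
-/

set_option autoImplicit false

namespace CfsgLib.AltSectEight57

open Module

variable {K : Type*} [Field K] {W : Type*} [AddCommGroup W] [Module K W] [FiniteDimensional K W]

/-- Three joint eigenvectors, two sharing the first eigenvalue, are independent. -/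
theorem three_le_finrank {A B : Module.End K W} {u v w : W} {a a' b b' : K} (hu : u ≠ 0)
    (hv : v ≠ 0) (hw : w ≠ 0) (hua : A u = a • u) (hva : A v = a • v) (hwa : A w = a' • w)
    (ha : a ≠ a') (hub : B u = b • u) (hvb : B v = b' • v) (hb : b ≠ b') :
    3 ≤ finrank K W := by
  have hind : LinearIndependent K ![u, v, w] := by
    rw [Fintype.linearIndependent_iff]
    intro g hg
    simp only [Fin.sum_univ_three, Matrix.cons_val_zero, Matrix.cons_val_one,
      Matrix.cons_val_two, Matrix.tail_cons, Matrix.head_cons] at hg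
    have h1 : (a - a') • (g 0 • u + g 1 • v) = 0 := by
      have hA : A (g 0 • u + g 1 • v + g 2 • w) - a' • (g 0 • u + g 1 • v + g 2 • w) = 0 := by
        simp [hg]
      rw [← hA]
      simp only [map_add, map_smul, hua, hva, hwa]
      module
    have h1' := (smul_eq_zero.1 h1).resolve_left (sub_ne_zero.2 ha)
    have h2 : ((b' - b) * g 1) • v = 0 := by
      have hB : B (g 0 • u + g 1 • v) - b • (g 0 • u + g 1 • v) = 0 := by simp [h1']
      rw [← hB]
      simp only [map_add, map_smul, hub, hvb]
      module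
    have hg1 : g 1 = 0 :=
      (mul_eq_zero.1 ((smul_eq_zero.1 h2).resolve_right hv)).resolve_left (sub_ne_zero.2 hb.symm)
    have hg0 : g 0 = 0 := by
      rw [hg1, zero_smul, add_zero] at h1'
      exact (smul_eq_zero.1 h1').resolve_right hu
    have hg2 : g 2 = 0 := by
      rw [hg0, hg1, zero_smul, zero_smul, zero_add, zero_add] at hg
      exact (smul_eq_zero.1 hg).resolve_right hw
    intro i
    fin_cases i
    · exact hg0
    · exact hg1
    · exact hg2
  simpa using hind.fintype_card_le_finrank

/-- An operator of order three has an eigenvector of eigenvalue a cube root of unity; if it moves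
a vector, one of non-trivial eigenvalue. -/
theorem exists_eigen_three (h3 : (3 : K) ≠ 0) {ζ : K} (hz : ζ * ζ + ζ + 1 = 0)
    {A : Module.End K W} (hA : A ^ 3 = 1) {x : W} :
    (x ≠ 0 → ∃ (a : K) (i j l : K), a ^ 3 = 1 ∧ A (i • x + j • A x + l • A (A x)) =
      a • (i • x + j • A x + l • A (A x)) ∧ i • x + j • A x + l • A (A x) ≠ 0) ∧
    (A x ≠ x → ∃ a : K, a ^ 3 = 1 ∧ a ≠ 1 ∧ ∃ w : W, w ≠ 0 ∧ A w = a • w) := by
  have h333 : A (A (A x)) = x := by
    rw [← Module.End.mul_apply, ← Module.End.mul_apply, ← pow_two, ← pow_succ, hA,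
      Module.End.one_apply]
  have hz3 : ζ ^ 3 = 1 := by linear_combination (ζ - 1) * hz
  have hz1 : ζ ≠ 1 := fun e => h3 (by rw [e] at hz; linear_combination hz)
  have hz2 : ζ * ζ ≠ 1 := fun e => hz1 (by
    have : ζ ^ 3 = ζ := by linear_combination ζ * e
    rw [hz3] at this
    exact this.symm)
  let P : K → W := fun a => (1 : K) • x + (a * a) • A x + a • A (A x)
  have hP : ∀ a : K, a ^ 3 = 1 → A (P a) = a • P a := fun a ha => by
    simp only [P, map_add, map_smul, h333, smul_add, smul_smul, mul_one,
      show a * (a * a) = 1 by linear_combination ha, one_smul]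
    abel
  have hsum : P 1 + P ζ + P (ζ * ζ) = (3 : K) • x := by
    have e1 : (1 : K) * 1 + ζ * ζ + ζ * ζ * (ζ * ζ) = 0 := by linear_combination (1 - ζ + ζ * ζ) * hz
    have e2 : (1 : K) + ζ + ζ * ζ = 0 := by linear_combination hz
    calc P 1 + P ζ + P (ζ * ζ) = (3 : K) • x + ((1 : K) * 1 + ζ * ζ + ζ * ζ * (ζ * ζ)) • A x +
          ((1 : K) + ζ + ζ * ζ) • A (A x) := by
          simp only [P, add_smul, show (3 : K) = 1 + 1 + 1 by norm_num]
          abel
      _ = _ := by rw [e1, e2, zero_smul, zero_smul, add_zero, add_zero]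
  constructor
  · intro hx
    by_contra hall
    push Not at hall
    have z : ∀ a : K, a ^ 3 = 1 → P a = 0 := fun a ha => hall a 1 (a * a) a ha (hP a ha)
    rw [z 1 (one_pow 3), z ζ hz3, z _ (by linear_combination (ζ ^ 3 + 1) * hz3), add_zero,
      add_zero] at hsum
    exact hx ((smul_eq_zero.1 hsum.symm).resolve_left h3)
  · intro hx
    by_contra hall
    push Not at hall
    have z : ∀ a : K, a ^ 3 = 1 → a ≠ 1 → P a = 0 := fun a ha ha1 => by
      by_contra hne
      exact hall a ha ha1 (P a) hne (hP a ha)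
    rw [z ζ hz3 hz1, z _ (by linear_combination (ζ ^ 3 + 1) * hz3) hz2, add_zero, add_zero] at hsum
    refine hx ?_
    have h := hP 1 (one_pow 3)
    rw [one_smul, hsum, map_smul] at h
    exact smul_right_injective W h3 h

/-- In dimension at most two the first operator is trivial. -/
theorem plane_trivial (h3 : (3 : K) ≠ 0) {ζ : K} (hz : ζ * ζ + ζ + 1 = 0)
    (hdim : finrank K W ≤ 2) {A B R : Module.End K W} (hR : Function.Injective R)
    (hA : A ^ 3 = 1) (hB : B ^ 3 = 1) (hAB : A * B = B * A) (hRA : R * A = B * R)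
    (hRB : R * B = A * A * R) : A = 1 := by
  by_contra hA1
  obtain ⟨x, hx⟩ : ∃ x, A x ≠ x := by
    by_contra hall
    push Not at hall
    exact hA1 (LinearMap.ext hall)
  obtain ⟨a, ha3, ha1, w, hw, hwA⟩ := (exists_eigen_three h3 hz hA).2 hx
  obtain ⟨b, i, j, l, hb3, hvB, hv⟩ := (exists_eigen_three h3 hz hB).1 hw
  set v := i • w + j • B w + l • B (B w) with hvdef
  have hBA : ∀ y, A (B y) = B (A y) := fun y => by
    rw [← Module.End.mul_apply, hAB, Module.End.mul_apply]
  have hvA : A v = a • v := by
    simp only [hvdef, map_add, map_smul, hBA, hwA, smul_add, smul_smul, mul_comm a]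
  -- one turn
  have turn : ∀ (y : W) (c d : K), c ^ 3 = 1 → d ^ 3 = 1 → A y = c • y → B y = d • y →
      A (R y) = (d * d) • R y ∧ B (R y) = c • R y := by
    intro y c d hc hd h1 h2
    have e2 : B (R y) = c • R y := by
      rw [← Module.End.mul_apply, ← hRA, Module.End.mul_apply, h1, map_smul]
    have e1 : A (A (R y)) = d • R y := by
      rw [← Module.End.mul_apply A A, ← Module.End.mul_apply, ← hRB, Module.End.mul_apply, h2,
        map_smul]
    have e3 : ∀ z, A (A (A z)) = z := fun z => by
      rw [← Module.End.mul_apply, ← Module.End.mul_apply, ← pow_two, ← pow_succ, hA,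
        Module.End.one_apply]
    refine ⟨?_, e2⟩
    have h := e3 (R y)
    rw [e1, map_smul] at h
    calc A (R y) = (d ^ 3) • A (R y) := by rw [hd, one_smul]
      _ = (d * d) • (d • A (R y)) := by rw [smul_smul]; ring_nf
      _ = _ := by rw [h]
  have hne : ∀ y : W, y ≠ 0 → R y ≠ 0 := fun y hy e => hy (hR (e.trans (map_zero R).symm))
  have cube : ∀ c : K, c ^ 3 = 1 → (c * c) ^ 3 = 1 := fun c hc => by
    linear_combination (c ^ 3 + 1) * hc
  obtain ⟨q2A, q2B⟩ := turn v a b ha3 hb3 hvA hvB
  obtain ⟨q3A, q3B⟩ := turn _ _ _ (cube b hb3) ha3 q2A q2B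
  obtain ⟨q4A, q4B⟩ := turn _ _ _ (cube a ha3) (cube b hb3) q3A q3B
  have eb : b * b * (b * b) = b := by linear_combination b * hb3
  rw [eb] at q4A
  have ha2 : a * a ≠ a := fun e => ha1 (by
    have ha0 : a ≠ 0 := fun e0 => by simp [e0] at ha3
    exact mul_right_cancel₀ ha0 (e.trans (one_mul a).symm))
  have n2 := hne v hv
  have n3 := hne _ n2
  have n4 := hne _ n3
  have key : 3 ≤ finrank K W := by
    by_cases hb : b = 1
    · rw [hb, one_mul] at q2A
      rw [hb] at q4A
      exact three_le_finrank n2 n4 hv q2A q4A hvA (Ne.symm ha1) q2B q4B (Ne.symm ha2)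
    · have hcase : b = a ∨ b = a * a := by
        have e : (b - 1) * ((b - a) * (b - a * a)) = 0 := by
          have hs : a * a + a + 1 = 0 := by
            have : (a - 1) * (a * a + a + 1) = 0 := by linear_combination ha3
            exact (mul_eq_zero.1 this).resolve_left (sub_ne_zero.2 ha1)
          linear_combination hb3 + (b - b ^ 2) * hs + (b - 1) * ha3
        rcases mul_eq_zero.1 e with h | h
        · exact absurd (sub_eq_zero.1 h) hb
        · rcases mul_eq_zero.1 h with h | h
          · exact Or.inl (sub_eq_zero.1 h)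
          · exact Or.inr (sub_eq_zero.1 h)
      rcases hcase with rfl | rfl
      · exact three_le_finrank hv n4 n3 hvA q4A q3A (Ne.symm ha2) hvB q4B (Ne.symm ha2)
      · have eaa : a * a * (a * a) = a := by linear_combination a * ha3
        rw [eaa] at q2A
        exact three_le_finrank hv n2 n3 hvA q2A q3A (Ne.symm ha2) hvB q2B ha2
  omega

end CfsgLib.AltSectEight57
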