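import Cfsg.Agent.AltSectEight57.Rotations

/-!
# Lifts of the block three-cycle and of the permutations of order four
-/

set_option autoImplicit false

namespace CfsgLib.AltSectEight57

open scoped commutatorElement

/-- The block three-cycle. -/
def tauA : APt := evenEl tau sign_tau

/-- The grid transpose. -/
def transA : APt := evenEl transp sign_transp

/-- The inverter of the three-cycle. -/
def flipTA : APt := transA * flipAllA * transA⁻¹

theorem coe_flipTA : (flipTA : Equiv.Perm Pt) = flipT := tau_facts.2.2.2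

theorem tauA_cube : tauA ^ 3 = 1 := Subtype.ext (by
  rw [SubgroupClass.coe_pow, pow_succ, pow_two]
  exact tau_facts.1)

theorem flipTA_inverts : flipTA * tauA * flipTA⁻¹ = tauA⁻¹ := Subtype.ext (by
  show (flipTA : Equiv.Perm Pt) * tau * ((flipTA : Equiv.Perm Pt))⁻¹ = tau⁻¹
  rw [coe_flipTA]
  exact tau_facts.2.1)

variable {Q : Type*} [Group Q] {f : Q →* APt} (hf : CentralThree f)
include hf

/-- The inverted lift of the three-cycle. -/
noncomputable def CentralThree.barTau : Q := hf.lift tauA flipTA

theorem CentralThree.map_barTau : f hf.barTau = tauA := hf.map_lift tauA_cube flipTA_inverts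

theorem CentralThree.barTau_cube : hf.barTau ^ 3 = 1 :=
  hf.lift_pow_three tauA_cube flipTA_inverts

theorem CentralThree.barTau_conj (v : V6) :
    hf.barTau * hf.bar v * hf.barTau⁻¹ = hf.bar (move blockCycle (fun _ => false) v) :=
  hf.bar_conj (by rw [hf.map_barTau]; rfl) v

theorem CentralThree.barTau_eq_conj :
    ∃ t : Q, t * hf.bar ![1, 1, 1, 0, 0, 0] * t⁻¹ = hf.barTau := by
  obtain ⟨t, ht⟩ := hf.surj transA
  refine ⟨t, ?_⟩
  rw [CentralThree.bar, hf.conj_lift, ht, CentralThree.barTau]
  congr 1
  exact Subtype.ext tau_facts.2.2.1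

/-- An element of order four turning the three-cycle and fixing a weight. -/
theorem CentralThree.exists_turn {x : V6} (hx : FixSix x) :
    ∃ r y : Q, (f r : Equiv.Perm Pt) = four x ∧ r * hf.barTau * r⁻¹ = y ∧
      r * y * r⁻¹ = hf.barTau⁻¹ ∧ y * hf.barTau = hf.barTau * y ∧ y ^ 3 = 1 := by
  obtain ⟨h1, h2, h3, h4, -⟩ := four_facts x hx
  obtain ⟨r, hr⟩ := hf.surj (evenEl (four x) (sign_four x hx))
  refine ⟨r, _, by rw [hr]; rfl, rfl, ?_, ?_, by rw [conj_pow, hf.barTau_cube]; group⟩
  · rw [show r * (r * hf.barTau * r⁻¹) * r⁻¹ = (r * r) * hf.barTau * (r * r)⁻¹ by group,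
      CentralThree.barTau, hf.conj_lift, map_mul, hr, ← hf.lift_inv tauA_cube flipTA_inverts]
    congr 1
    · exact Subtype.ext h1
    · refine Subtype.ext ?_
      show four x * four x * (flipTA : Equiv.Perm Pt) * (four x * four x)⁻¹ = flipTA
      rw [coe_flipTA]
      exact h2
  · symm
    refine hf.commute_of_inverter (h₀ := flipTA) ?_ ?_ ?_
    · rw [map_mul, map_mul, map_inv, hf.map_barTau, hr]
      exact Subtype.ext h4
    · rw [hf.map_barTau]; exact flipTA_inverts
    · rw [map_mul, map_mul, map_inv, hf.map_barTau, hr]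
      refine Subtype.ext ?_
      show (flipTA : Equiv.Perm Pt) * (four x * tau * (four x)⁻¹) * ((flipTA : Equiv.Perm Pt))⁻¹ = _
      rw [coe_flipTA]
      exact h3

theorem CentralThree.turn_conj {x : V6} {r : Q} (hr : (f r : Equiv.Perm Pt) = four x) (v : V6) :
    r * hf.bar v * r⁻¹ = hf.bar (move blockFour (twist x) v) :=
  hf.bar_conj hr v

end CfsgLib.AltSectEight57
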