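import Cfsg.Agent.AltSectEight57.Counting
import Mathlib.LinearAlgebra.Dimension.Constructions
import Mathlib.LinearAlgebra.FiniteDimensional.Basic

/-!
# Weight spaces of six commuting operators of order three
-/

set_option autoImplicit false
set_option linter.unusedSectionVars false

namespace CfsgLib.AltSectEight57

open Module

variable {K : Type*} [Field K] {V : Type*} [AddCommGroup V] [Module K V] [FiniteDimensional K V]

/-- A representation of the rotations together with a cube root of unity. -/
structure SixOps (K V : Type*) [Field K] [AddCommGroup V] [Module K V] where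
  /-- the operators -/
  T : V6 → Module.End K V
  /-- the cube root of unity -/
  ζ : K
  T_zero : T 0 = 1
  T_add : ∀ u v, T (u + v) = T u * T v
  ζ_pow : ζ ^ 3 = 1
  ζ_ne : ζ ≠ 1
  three : (3 : K) ≠ 0

variable (O : SixOps K V)

/-- The character of a residue. -/
def SixOps.ch (a : ZMod 3) : K := O.ζ ^ a.val

theorem SixOps.ch_zero : O.ch 0 = 1 := by simp [SixOps.ch]

theorem SixOps.ch_add (a b : ZMod 3) : O.ch (a + b) = O.ch a * O.ch b := by
  rw [SixOps.ch, SixOps.ch, SixOps.ch, ZMod.val_add, ← pow_add,
    ← pow_eq_pow_mod _ O.ζ_pow]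

theorem SixOps.ch_eq_one {a : ZMod 3} (h : O.ch a = 1) : a = 0 := by
  by_contra ha
  have hne : ∀ b : ZMod 3, b ≠ 0 → b.val = 1 ∨ b.val = 2 := by decide
  rcases hne a ha with e | e <;> rw [SixOps.ch, e] at h
  · rw [pow_one] at h; exact O.ζ_ne h
  · refine O.ζ_ne ?_
    have h3 := O.ζ_pow
    rw [pow_succ, h, one_mul] at h3
    exact h3

/-- The weight space of a character. -/
def SixOps.Wt (x : V6) : Submodule K V where
  carrier := {u | ∀ v, O.T v u = O.ch (dot6 x v) • u}
  add_mem' := fun {a b} ha hb v => by rw [map_add, ha v, hb v, smul_add]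
  zero_mem' := fun v => by simp
  smul_mem' := fun c a ha v => by rw [map_smul, ha v, smul_comm]

theorem SixOps.mem_Wt {x : V6} {u : V} :
    u ∈ O.Wt x ↔ ∀ v, O.T v u = O.ch (dot6 x v) • u := Iff.rfl

/-- The projection on a weight space. -/
def SixOps.proj (x : V6) : Module.End K V :=
  (729 : K)⁻¹ • ∑ v : V6, O.ch (-dot6 x v) • O.T v

theorem SixOps.c729 (O : SixOps K V) : (729 : K) ≠ 0 := by
  rw [show (729 : K) = 3 ^ 6 by norm_num]
  exact pow_ne_zero _ O.three

theorem SixOps.proj_apply (x : V6) (u : V) :
    O.proj x u = (729 : K)⁻¹ • ∑ v : V6, O.ch (-dot6 x v) • O.T v u := by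
  simp [SixOps.proj, LinearMap.sum_apply]

attribute [local irreducible] SixOps.proj

theorem SixOps.orth (v : V6) : ∑ x : V6, O.ch (-dot6 x v) = if v = 0 then (729 : K) else 0 := by
  split_ifs with h
  · subst h
    have : ∀ x : V6, dot6 x 0 = 0 := fun x => by simp [dot6]
    simp only [this, neg_zero, O.ch_zero, Finset.sum_const, Finset.card_univ, Fintype.card_fun,
      ZMod.card, Fintype.card_fin, nsmul_eq_mul, mul_one]
    norm_num
  · obtain ⟨i, hi⟩ := Function.ne_iff.1 h
    have hshift : ∑ x : V6, O.ch (-dot6 x v) = O.ch (-v i) * ∑ x : V6, O.ch (-dot6 x v) := by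
      conv_lhs => rw [← Equiv.sum_comp (Equiv.addRight (Pi.single i 1 : V6))
        fun x => O.ch (-dot6 x v)]
      rw [Finset.mul_sum]
      refine Finset.sum_congr rfl fun x _ => ?_
      rw [← O.ch_add]
      congr 1
      simp [dot6, Finset.sum_add_distrib, add_mul, Pi.single_apply, ite_mul]
    have hne : O.ch (-v i) ≠ 1 := fun e => hi (by simpa using O.ch_eq_one e)
    by_contra hS
    exact hne (mul_right_cancel₀ hS (hshift.symm.trans (one_mul _).symm))

theorem SixOps.proj_mem (x : V6) (u : V) : O.proj x u ∈ O.Wt x := by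
  intro w
  rw [O.proj_apply, map_smul, smul_comm, map_sum, Finset.smul_sum (r := O.ch (dot6 x w))]
  congr 1
  refine Eq.trans ?_ (Equiv.sum_comp (Equiv.addLeft w)
    fun v => O.ch (dot6 x w) • O.ch (-dot6 x v) • O.T v u)
  refine Finset.sum_congr rfl fun v _ => ?_
  rw [map_smul, Equiv.coe_addLeft, smul_smul, ← O.ch_add, O.T_add, Module.End.mul_apply, dot6_add]
  congr 2
  ring

theorem SixOps.sum_proj (u : V) : ∑ x, O.proj x u = u := by
  simp only [O.proj_apply, ← Finset.smul_sum]
  rw [Finset.sum_comm]
  simp only [← Finset.sum_smul, O.orth, ite_smul, zero_smul, Finset.sum_ite_eq', Finset.mem_univ,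
    if_true, O.T_zero, Module.End.one_apply, smul_smul, inv_mul_cancel₀ O.c729, one_smul]

theorem SixOps.proj_of_mem {x y : V6} {u : V} (hu : u ∈ O.Wt y) :
    O.proj x u = if x = y then u else 0 := by
  rw [O.proj_apply]
  simp only [hu _, smul_smul, ← O.ch_add, ← Finset.sum_smul]
  have e : ∀ v : V6, -dot6 x v + dot6 y v = -dot6 v (x - y) := fun v => by
    simp only [dot6, Pi.sub_apply, ← Finset.sum_neg_distrib, ← Finset.sum_add_distrib]
    exact Finset.sum_congr rfl fun i _ => by ring
  simp only [e, O.orth, sub_eq_zero]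
  split_ifs with h
  · rw [inv_mul_cancel₀ O.c729, one_smul]
  · rw [mul_zero, zero_smul]

/-- The dimension of a weight space. -/
noncomputable def SixOps.dimW (x : V6) : ℕ := finrank K (O.Wt x)

/-- The vectors fixed by an operator. -/
def fixEnd (A : Module.End K V) : Submodule K V := LinearMap.eqLocus A LinearMap.id

theorem mem_fixEnd {A : Module.End K V} {u : V} : u ∈ fixEnd A ↔ A u = u := by simp [fixEnd]

theorem finrank_of_projections {ι : Type*} [DecidableEq ι] (F : Submodule K V)
    (W : ι → Submodule K V) (P : ι → Module.End K V) (hP : ∀ x u, P x u ∈ W x)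
    (hself : ∀ x y, ∀ u ∈ W y, P x u = if x = y then u else 0) (s : Finset ι)
    (hsum : ∀ u ∈ F, ∑ x ∈ s, P x u = u) (hW : ∀ x ∈ s, W x ≤ F) :
    finrank K F = ∑ x ∈ s, finrank K (W x) := by
  let Φ : F →ₗ[K] (∀ x : s, W x.1) :=
    LinearMap.pi fun x : s => ((P x.1).comp F.subtype).codRestrict (W x.1) fun u => hP x.1 _
  have hΦ : ∀ u x, ((Φ u x : W x.1) : V) = P x.1 (u : V) := fun _ _ => rfl
  have hinj : Function.Injective Φ := by
    rw [← LinearMap.ker_eq_bot, LinearMap.ker_eq_bot']
    intro u hu
    apply Subtype.ext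
    rw [ZeroMemClass.coe_zero, ← hsum u u.2]
    refine Finset.sum_eq_zero fun x hx => ?_
    rw [← hΦ u ⟨x, hx⟩, hu]
    rfl
  have hsurj : Function.Surjective Φ := by
    intro f
    refine ⟨⟨∑ x : s, (f x : V), Submodule.sum_mem _ fun x _ => hW x.1 x.2 (f x).2⟩,
      funext fun x => Subtype.ext ?_⟩
    rw [hΦ, map_sum, Finset.sum_eq_single x]
    · rw [hself _ _ _ (f x).2, if_pos rfl]
    · intro y _ hy
      rw [hself _ _ _ (f y).2, if_neg fun e => hy (Subtype.ext e.symm)]
    · intro h
      exact absurd (Finset.mem_univ x) h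
  rw [(LinearEquiv.ofBijective Φ ⟨hinj, hsurj⟩).finrank_eq, Module.finrank_pi_fintype]
  exact Finset.sum_coe_sort s fun x => finrank K (W x)

theorem SixOps.finrank_fix (v : V6) :
    finrank K (fixEnd (O.T v)) =
      ∑ x ∈ Finset.univ.filter (fun x => dot6 x v = 0), O.dimW x := by
  refine finrank_of_projections _ O.Wt O.proj O.proj_mem (fun x y u hu => O.proj_of_mem hu) _
    (fun u hu => ?_) fun x hx u hu => ?_
  · conv_rhs => rw [← O.sum_proj u]
    refine Finset.sum_filter_of_ne fun x _ hne => ?_
    by_contra hx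
    refine hne ?_
    have h1 := O.proj_mem x u v
    have hc : O.T v (O.proj x u) = O.proj x (O.T v u) := by
      rw [O.proj_apply, O.proj_apply, map_smul, map_sum]
      refine congrArg _ (Finset.sum_congr rfl fun w _ => ?_)
      rw [map_smul, ← Module.End.mul_apply, ← O.T_add, add_comm, O.T_add, Module.End.mul_apply]
    rw [hc, mem_fixEnd.1 hu] at h1
    have : (O.ch (dot6 x v) - 1) • O.proj x u = 0 := by
      rw [sub_smul, one_smul, ← h1, sub_self]
    exact (smul_eq_zero.1 this).resolve_left (sub_ne_zero.2 fun h => hx (O.ch_eq_one h))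
  · rw [mem_fixEnd, hu v, (Finset.mem_filter.1 hx).2, O.ch_zero, one_smul]

theorem SixOps.sum_dimW : ∑ x, O.dimW x = finrank K V := by
  have h := O.finrank_fix 0
  have e : fixEnd (O.T 0) = ⊤ := eq_top_iff.2 fun u _ => mem_fixEnd.2 (by rw [O.T_zero]; rfl)
  rw [e, finrank_top] at h
  rw [h]
  exact (Finset.sum_congr (by ext x; simp [dot6]) fun _ _ => rfl).symm

/-- A monomial operator. -/
structure SixOps.Moves (U : Module.End K V) (π : Equiv.Perm (Fin 6)) (f : Fin 6 → Bool) : Prop where
  inj : Function.Injective U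
  comm : ∀ v, U * O.T v = O.T (move π f v) * U

theorem SixOps.Moves.map_mem {U : Module.End K V} {π : Equiv.Perm (Fin 6)} {f : Fin 6 → Bool}
    (hU : O.Moves U π f) {x : V6} {u : V} (hu : u ∈ O.Wt x) : U u ∈ O.Wt (move π f x) := by
  intro w
  obtain ⟨v, rfl⟩ := (move_bijective π f).2 w
  rw [dot6_move, ← Module.End.mul_apply, ← hU.comm, Module.End.mul_apply, hu v, map_smul]

theorem SixOps.Moves.dimW_le {U : Module.End K V} {π : Equiv.Perm (Fin 6)} {f : Fin 6 → Bool}
    (hU : O.Moves U π f) (x : V6) : O.dimW x ≤ O.dimW (move π f x) :=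
  LinearMap.finrank_le_finrank_of_injective
    (f := U.restrict (p := O.Wt x) (q := O.Wt (move π f x)) fun _ hu => hU.map_mem O hu)
    fun a b e => Subtype.ext (hU.inj (congrArg Subtype.val e))

/-- Multiplicities depend only on the support when every move has operators in both directions. -/
theorem SixOps.dimW_eq_canon
    (hmov : ∀ g, Move g → ∀ x, O.dimW (move g.1 g.2 x) = O.dimW x) (x : V6) :
    O.dimW x = O.dimW (canon6 (supp6 x)) := by
  suffices ∀ n x, code6 x = n → O.dimW x = O.dimW (canon6 (supp6 x)) from this _ x rfl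
  intro n
  induction n using Nat.strong_induction_on with
  | _ n ih =>
  intro x hn
  by_cases hx : x = canon6 (supp6 x)
  · rw [← hx]
  obtain ⟨g, hg, h1, h2⟩ := exists_descent x hx
  rw [← hmov g hg x, ← h2]
  exact ih _ (hn ▸ h1) _ rfl

/-- The lower bound for the fixed space of the block three-cycle. -/
theorem SixOps.fix_lower {U : Module.End K V}
    (hU : O.Moves U blockCycle fun _ => false) (h3 : U * U * U = 1)
    (htriv : ∀ x, FixSix x → ∀ u ∈ O.Wt x, U u = u) :
    ∑ x ∈ Finset.univ.filter goodWeight, O.dimW x ≤ finrank K (fixEnd U) := by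
  classical
  let σ : V6 → V6 := move blockCycle fun _ => false
  let S := {x : V6 // goodWeight x}
  let P : Module.End K V := 1 + U + U * U
  let A : S → Module.End K V := fun x => if FixSix x.1 then 1 else P
  let Φ : (∀ x : S, O.Wt x.1) →ₗ[K] fixEnd U :=
    ((∑ x : S, (A x).comp ((O.Wt x.1).subtype.comp (LinearMap.proj x))).codRestrict _ fun f => by
      rw [mem_fixEnd]
      simp only [LinearMap.sum_apply, LinearMap.comp_apply, LinearMap.proj_apply,
        Submodule.subtype_apply, map_sum]
      refine Finset.sum_congr rfl fun x _ => ?_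
      simp only [A]
      split_ifs with hx
      · exact htriv _ hx _ (f x).2
      · simp only [P, LinearMap.add_apply, map_add, Module.End.one_apply, Module.End.mul_apply]
        have e : U (U (U (f x : V))) = f x := by
          rw [← Module.End.mul_apply, ← Module.End.mul_apply, h3, Module.End.one_apply]
        rw [e]
        abel)
  have hsum : ∑ x ∈ Finset.univ.filter goodWeight, O.dimW x = finrank K (∀ x : S, O.Wt x.1) := by
    rw [Module.finrank_pi_fintype]
    exact Finset.sum_subtype (Finset.univ.filter goodWeight)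
      (fun x => by rw [Finset.mem_filter]; exact ⟨fun h => h.2, fun h => ⟨Finset.mem_univ x, h⟩⟩)
      fun x => O.dimW x
  rw [hsum]
  refine LinearMap.finrank_le_finrank_of_injective (f := Φ) ?_
  rw [← LinearMap.ker_eq_bot, LinearMap.ker_eq_bot']
  intro f hf
  funext y
  refine Subtype.ext ?_
  have h0 : (∑ x : S, (A x) (f x : V)) = 0 := by
    have := congrArg Subtype.val hf
    simpa [Φ, LinearMap.sum_apply] using this
  have key : O.proj y.1 (∑ x : S, (A x) (f x : V)) = (f y : V) := by
    rw [map_sum, Finset.sum_eq_single y]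
    · simp only [A]
      split_ifs with hy
      · rw [Module.End.one_apply, O.proj_of_mem (f y).2, if_pos rfl]
      · have h1 := hU.map_mem O (f y).2
        have h2 := hU.map_mem O h1
        obtain ⟨n1, n2⟩ := (goodWeight_orbit y.1).2 y.2 hy
        simp only [P, LinearMap.add_apply, Module.End.one_apply, Module.End.mul_apply, map_add,
          O.proj_of_mem (f y).2, O.proj_of_mem h1, O.proj_of_mem h2]
        rw [if_pos trivial, if_neg (fun e => n1 (by rw [← e]; exact y.2)),
          if_neg (fun e => n2 (by rw [← e]; exact y.2)), add_zero, add_zero]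
    · intro x _ hxy
      simp only [A]
      split_ifs with hx
      · rw [Module.End.one_apply, O.proj_of_mem (f x).2, if_neg fun e => hxy (Subtype.ext e.symm)]
      · have h1 := hU.map_mem O (f x).2
        have h2 := hU.map_mem O h1
        obtain ⟨n1, n2⟩ := (goodWeight_orbit x.1).2 x.2 hx
        simp only [P, LinearMap.add_apply, Module.End.one_apply, Module.End.mul_apply, map_add,
          O.proj_of_mem (f x).2, O.proj_of_mem h1, O.proj_of_mem h2]
        rw [if_neg (fun e => hxy (Subtype.ext e.symm)),
          if_neg (fun e => n1 (by rw [← e]; exact y.2)),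
          if_neg (fun e => n2 (by rw [← e]; exact y.2)), add_zero, add_zero]
    · simp
  rw [h0, map_zero] at key
  rw [← key]
  rfl

end CfsgLib.AltSectEight57
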