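import Cfsg.Agent.AltSectEight57.Kernel
import Cfsg.Agent.AltSectEight57.CoprimeLift
import Cfsg.Agent.AltSectEight57.Twist
import Cfsg.Agent.AltSectEight57.Weights
import Cfsg.Agent.AltSectEight57.Plane

/-!
# No section `A₁₈` in a group on 248 dimensions with few fixed space dimensions for 3-elements
-/

set_option autoImplicit false
set_option linter.style.haveILetI false
set_option maxHeartbeats 1000000

namespace CfsgLib.AltSectEight57

open Module
open scoped commutatorElement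

/-- Dimensions of fixed spaces are monotone along intertwiners. -/
theorem finrank_fixEnd_le {K V : Type*} [Field K] [AddCommGroup V] [Module K V]
    [FiniteDimensional K V] {A B U : Module.End K V} (hU : Function.Injective U)
    (h : U * A = B * U) : finrank K (fixEnd A) ≤ finrank K (fixEnd B) :=
  LinearMap.finrank_le_finrank_of_injective
    (f := U.restrict (p := fixEnd A) (q := fixEnd B) fun u hu => mem_fixEnd.2 (by
      rw [← Module.End.mul_apply, ← h, Module.End.mul_apply, mem_fixEnd.1 hu]))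
    fun a b e => Subtype.ext (hU (congrArg Subtype.val e))

/-- Conjugations preserving two subgroups preserve their join. -/
theorem conj_mem_sup {G : Type*} [Group G] {A B C : Subgroup G} {g : G}
    (hA : ∀ x ∈ A, g * x * g⁻¹ ∈ C) (hB : ∀ x ∈ B, g * x * g⁻¹ ∈ C) :
    ∀ x ∈ A ⊔ B, g * x * g⁻¹ ∈ C := fun _ hx =>
  (sup_le (c := C.comap (MulAut.conj g).toMonoidHom) hA hB) hx

/-- In a finite group a conjugation into a subgroup normalises it. -/
theorem mem_normalizer_of_conj {G : Type*} [Group G] [Finite G] {C : Subgroup G} {g : G}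
    (h : ∀ x ∈ C, g * x * g⁻¹ ∈ C) : g ∈ Subgroup.normalizer (C : Set G) := by
  have e : C.map (MulAut.conj g).toMonoidHom = C :=
    Subgroup.eq_of_le_of_card_ge (by rintro _ ⟨x, hx, rfl⟩; exact h x hx)
      (Subgroup.card_map_of_injective (MulAut.conj g).injective).ge
  refine Subgroup.mem_normalizer_iff.2 fun x => ⟨h x, fun hx => ?_⟩
  rw [← e] at hx
  obtain ⟨y, hy, hyx⟩ := hx
  rwa [← (MulAut.conj g).injective (show MulAut.conj g y = MulAut.conj g x from hyx)]

/-- A normalising element keeps the join of 3-subgroups a 3-group. -/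
theorem isPGroup_sup_zpowers {G : Type*} [Group G] [Finite G] {A : Subgroup G} {g : G}
    (hA : IsPGroup 3 A) (hg : g ^ 3 = 1) (h : ∀ x ∈ A, g * x * g⁻¹ ∈ A) :
    IsPGroup 3 (A ⊔ Subgroup.zpowers g : Subgroup G) := by
  rw [sup_comm]
  refine IsPGroup.to_sup_of_normal_right' (fun w => ⟨1, ?_⟩) hA ?_
  · obtain ⟨j, hj⟩ := w.2
    simp only at hj
    apply Subtype.ext
    rw [Subgroup.coe_pow, pow_one, ← hj, ← zpow_natCast, ← zpow_mul, mul_comm, zpow_mul,
      zpow_natCast, hg, one_zpow, Subgroup.coe_one]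
  · rw [Subgroup.zpowers_le]
    exact mem_normalizer_of_conj h

theorem three_nsmul_zmod : ∀ a : ZMod 3, 3 • a = 0 := by decide

theorem three_add_zmod : ∀ a : ZMod 3, a + a + a = 0 := by decide

theorem block6_three : (![1, 1, 1, 0, 0, 0] : V6) = block6 3 := by decide

variable {K : Type*} [Field K] {V : Type*} [AddCommGroup V] [Module K V] [FiniteDimensional K V]

/-- Injective representations act injectively. -/
theorem rho_injective' {H : Type*} [Group H] (ρ : H →* Module.End K V) (h : H) :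
    Function.Injective (ρ h) := fun a b e => by
  have := congrArg (ρ h⁻¹) e
  rwa [← Module.End.mul_apply, ← Module.End.mul_apply, ← map_mul, inv_mul_cancel, map_one] at this

/-- No minimal group over `A₁₈` acts faithfully with these fixed space dimensions. -/
theorem no_eighteen {H : Type} [Group H] [Finite H] (X : Small H)
    (ρ : H →* Module.End K V) (hρ : Function.Injective ρ) (hdim : finrank K V = 248)
    (h3 : (3 : K) ≠ 0) {ζ : K} (hz : ζ * ζ + ζ + 1 = 0)
    (hfix : ∀ x : H, x ^ 3 = 1 → finrank K (fixEnd (ρ x)) ∈ [248, 134, 92, 86, 80]) : False := by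
  classical
  haveI : Fact (Nat.Prime 3) := ⟨Nat.prime_three⟩
  obtain ⟨N, hNn, hNK, hN3, hNc, hNp⟩ := X.exists_complement
  haveI := hNn
  let π := QuotientGroup.mk' N
  have hπ : Function.Surjective π := QuotientGroup.mk'_surjective N
  have hrange : π.range = ⊤ := MonoidHom.range_eq_top.2 hπ
  have hk : ¬ 3 ∣ Nat.card π.ker := by
    show ¬ 3 ∣ Nat.card (QuotientGroup.mk' N).ker
    rwa [QuotientGroup.ker_mk']
  let e18 : alternatingGroup (Fin 18) ≃* APt :=
    Equiv.altCongrHom (Fintype.equivFinOfCardEq (α := Pt) (by simp)).symm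
  let f : H ⧸ N →* APt := e18.toMonoidHom.comp (QuotientGroup.lift N X.φ hNK)
  have hfπ : ∀ h, f (π h) = e18 (X.φ h) := fun _ => rfl
  have hker : ∀ h, f (π h) = 1 → h ∈ X.φ.ker := fun h e => by
    rw [hfπ] at e
    exact MonoidHom.mem_ker.2 (e18.injective (e.trans (map_one e18).symm))
  have hf : CentralThree f := by
    refine ⟨fun a => ?_, fun z hz g => ?_, fun z hz => ?_⟩
    · obtain ⟨h, hh⟩ := X.surj (e18.symm a)
      exact ⟨π h, by rw [hfπ, hh, MulEquiv.apply_symm_apply]⟩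
    · obtain ⟨z, rfl⟩ := hπ z
      obtain ⟨g, rfl⟩ := hπ g
      rw [← commutatorElement_eq_one_iff_mul_comm, ← map_commutatorElement]
      exact (QuotientGroup.eq_one_iff _).2 (hNc z (hker z hz) g)
    · obtain ⟨z, rfl⟩ := hπ z
      obtain ⟨k, hk'⟩ := hNp z (hker z hz)
      exact ⟨k, by rw [← map_pow]; exact (QuotientGroup.eq_one_iff _).2 hk'⟩
  -- the six rotations in `H`
  let ebar : Multiplicative V6 →* H ⧸ N :=
    MonoidHom.mk' (fun v => hf.bar v.toAdd) fun a b => hf.bar_add a.toAdd b.toAdd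
  let EQ : Subgroup (H ⧸ N) := ebar.range
  have hEQ : IsPGroup 3 EQ := by
    rintro ⟨_, v, rfl⟩
    refine ⟨1, Subtype.ext ?_⟩
    show ebar v ^ (3 ^ 1) = 1
    have hv : v ^ (3 ^ 1) = 1 := by
      apply Multiplicative.toAdd.injective
      rw [toAdd_pow, toAdd_one]
      exact funext fun i => three_nsmul_zmod (v.toAdd i)
    rw [← map_pow, hv, map_one]
  have hle : ∀ B : Subgroup (H ⧸ N), B ≤ π.range := fun B => hrange ▸ le_top
  obtain ⟨RE, hRE, hREmap⟩ := exists_lift_subgroup hk (hle EQ) hEQ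
  have hlift : ∀ v : V6, ∃ x ∈ RE, π x = hf.bar v := fun v => by
    have hv : hf.bar v ∈ RE.map π := hREmap ▸ ⟨Multiplicative.ofAdd v, rfl⟩
    obtain ⟨x, hx, e⟩ := hv
    exact ⟨x, hx, e⟩
  choose E hE hEπ using hlift
  have hEadd : ∀ u v, E (u + v) = E u * E v := fun u v =>
    injOn_pGroup hk hRE (hE _) (mul_mem (hE u) (hE v))
      (by rw [map_mul, hEπ, hEπ, hEπ, hf.bar_add])
  have hE0 : E 0 = 1 := injOn_pGroup hk hRE (hE _) (one_mem _) (by rw [hEπ, hf.bar_zero, map_one])
  have hE3 : ∀ v, E v ^ 3 = 1 := fun v => by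
    rw [pow_succ, pow_two, ← hEadd, ← hEadd, ← hE0]
    congr 1
    funext i
    simpa using three_add_zmod (v i)
  have hEne : ∀ v, v ≠ 0 → E v ≠ 1 := fun v hv e => hv (by
    have h1 := hf.map_bar v
    rw [← hEπ, e, map_one, map_one, ← rotA_zero] at h1
    exact (rotA_injective h1).symm)
  have hζ3 : ζ ^ 3 = 1 := by linear_combination (ζ - 1) * hz
  have hζ1 : ζ ≠ 1 := fun e => h3 (by rw [e] at hz; linear_combination hz)
  let O : SixOps K V :=
    { T := fun v => ρ (E v)
      ζ := ζ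
      T_zero := by rw [hE0, map_one]
      T_add := fun u v => by rw [hEadd, map_mul]
      ζ_pow := hζ3
      ζ_ne := hζ1
      three := h3 }
  -- monomial elements lift to the normaliser
  have hmono : ∀ (P : Equiv.Perm (Fin 6)) (fl : Fin 6 → Bool),
      Equiv.Perm.sign (mono P fl) = 1 → ∃ h : H, ∀ v, h * E v * h⁻¹ = E (move P fl v) := by
    intro P fl hs
    obtain ⟨q, hq⟩ := hf.surj (evenEl (mono P fl) hs)
    obtain ⟨h₀, hh₀⟩ := hπ q
    have hconj : ∀ v, q * hf.bar v * q⁻¹ = hf.bar (move P fl v) := hf.bar_conj (by rw [hq]; rfl)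
    obtain ⟨h, hh, hn⟩ := exists_lift_normalizer hk hRE (h₀ := h₀) fun x hx => by
      have hxm : π x ∈ EQ := hREmap ▸ ⟨x, hx, rfl⟩
      obtain ⟨v, hv⟩ := hxm
      rw [hh₀, ← hv]
      show q * hf.bar v.toAdd * q⁻¹ ∈ _
      rw [hconj, hREmap]
      exact ⟨Multiplicative.ofAdd _, rfl⟩
    exact ⟨h, fun v => injOn_pGroup hk hRE (hn _ (hE v)) (hE _) (by
      rw [map_mul, map_mul, map_inv, hh, hh₀, hEπ, hEπ, hconj])⟩
  have hmoves : ∀ {P : Equiv.Perm (Fin 6)} {fl : Fin 6 → Bool} {h : H},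
      (∀ v, h * E v * h⁻¹ = E (move P fl v)) → O.Moves (ρ h) P fl := by
    intro P fl h hh
    refine ⟨rho_injective' ρ h, fun v => ?_⟩
    show ρ h * ρ (E v) = ρ (E (move P fl v)) * ρ h
    rw [← map_mul, ← map_mul, ← hh, inv_mul_cancel_right]
  have hdimW : ∀ g, Move g → ∀ x, O.dimW (move g.1 g.2 x) = O.dimW x := by
    intro g hg x
    obtain ⟨h, hh⟩ := hmono g.1 g.2 hg.sign
    refine le_antisymm ?_ ((hmoves hh).dimW_le O x)
    refine LinearMap.finrank_le_finrank_of_injective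
      (f := (ρ h⁻¹).restrict (p := O.Wt (move g.1 g.2 x)) (q := O.Wt x) fun u hu v => ?_)
      fun a b e => Subtype.ext (rho_injective' ρ h⁻¹ (congrArg Subtype.val e))
    have h1 := hu (move g.1 g.2 v)
    rw [dot6_move] at h1
    show ρ (E v) (ρ h⁻¹ u) = O.ch (dot6 x v) • ρ h⁻¹ u
    rw [← map_smul, ← h1, ← Module.End.mul_apply, ← map_mul]
    show _ = (ρ h⁻¹) ((ρ (E (move g.1 g.2 v))) u)
    rw [← Module.End.mul_apply, ← map_mul, ← hh]
    congr 2
    group
  let n : Fin 7 → ℕ := fun w => O.dimW (canon6 w)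
  have hn : ∀ x, O.dimW x = n (supp6 x) := O.dimW_eq_canon hdimW
  have hsum : ∑ w, sizes6 w * n w = 248 := by
    rw [← hdim, ← O.sum_dimW]
    simp only [hn]
    rw [← Finset.sum_fiberwise Finset.univ supp6 fun x => n (supp6 x)]
    refine Finset.sum_congr rfl fun w _ => ?_
    rw [Finset.sum_congr rfl fun x hx => congrArg n (Finset.mem_filter.1 hx).2, Finset.sum_const,
      smul_eq_mul, sizes6_eq]
  have hfixsum : ∀ j : Fin 7, finrank K (fixEnd (ρ (E (block6 j)))) = ∑ w, fixNum j w * n w := by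
    intro j
    show finrank K (fixEnd (O.T (block6 j))) = _
    rw [O.finrank_fix]
    simp only [hn]
    rw [card_filter_sum (fun x => dot6 x (block6 j) = 0) n]
    simp only [fixNum_eq]
  have hj : ∀ j : Fin 6, ∑ w, fixNum j.succ w * n w ∈ [134, 92, 86, 80] := by
    intro j
    rw [← hfixsum]
    have hm := hfix (E (block6 j.succ)) (hE3 _)
    have hne : finrank K (fixEnd (ρ (E (block6 j.succ)))) ≠ 248 := by
      intro e
      refine hEne (block6 j.succ) ?_ (hρ ?_)
      · intro e0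
        have h0 := congrFun e0 0
        simp [block6] at h0
      · rw [map_one]
        refine LinearMap.ext fun u => ?_
        have htop : fixEnd (ρ (E (block6 j.succ))) = ⊤ :=
          Submodule.eq_top_of_finrank_eq (e.trans hdim.symm)
        exact mem_fixEnd.1 (htop ▸ Submodule.mem_top : u ∈ fixEnd (ρ (E (block6 j.succ))))
    simp only [List.mem_cons, List.not_mem_nil, or_false] at hm ⊢
    exact hm.resolve_left hne
  have hn_eq := lp_unique n hsum hj
  -- the three-cycle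
  have hconjEQ : ∀ {q : H ⧸ N} {P : Equiv.Perm (Fin 6)} {fl : Fin 6 → Bool},
      (∀ v, q * hf.bar v * q⁻¹ = hf.bar (move P fl v)) → ∀ x ∈ EQ, q * x * q⁻¹ ∈ EQ := by
    rintro q P fl hq _ ⟨v, rfl⟩
    exact ⟨Multiplicative.ofAdd (move P fl v.toAdd), (hq v.toAdd).symm⟩
  let B₀ : Subgroup (H ⧸ N) := EQ ⊔ Subgroup.zpowers hf.barTau
  have hB₀ : IsPGroup 3 B₀ :=
    isPGroup_sup_zpowers hEQ hf.barTau_cube (hconjEQ hf.barTau_conj)
  obtain ⟨R₁, hR₁, hR₁map⟩ := exists_lift_subgroup hk (hle B₀) hB₀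
  -- move `R₁` so that it contains the rotations
  have hREle : RE.map π ≤ R₁.map π := by rw [hR₁map, hREmap]; exact le_sup_left
  have hcontain : ∀ {S R : Subgroup H}, IsPGroup 3 S → IsPGroup 3 R → S.map π ≤ R.map π →
      ∃ R' : Subgroup H, IsPGroup 3 R' ∧ S ≤ R' ∧ R'.map π = R.map π := by
    intro S R hS hR hle'
    set S' : Subgroup H := R ⊓ (S.map π).comap π
    have hS' : IsPGroup 3 S' := hR.to_le inf_le_left
    have hmap : S'.map π = S.map π := by
      refine le_antisymm ?_ fun y hy => ?_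
      · rintro _ ⟨x, hx, rfl⟩; exact hx.2
      · obtain ⟨x, hx, rfl⟩ := hle' hy
        exact ⟨x, ⟨hx, hy⟩, rfl⟩
    obtain ⟨k, hkk, hc⟩ := exists_conj_of_map_eq hk hS' hS hmap.symm
    refine ⟨R.map (MulAut.conj k⁻¹).toMonoidHom, hR.map _,
      fun x hx => ⟨k * x * k⁻¹, (hc x hx).1, ?_⟩, ?_⟩
    · show k⁻¹ * (k * x * k⁻¹) * k⁻¹⁻¹ = x
      group
    · rw [Subgroup.map_map]
      refine SetLike.ext fun y => ?_
      simp only [Subgroup.mem_map, MonoidHom.comp_apply]
      have e : ∀ z, π ((MulAut.conj k⁻¹).toMonoidHom z) = π z := fun z => by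
        simp [MonoidHom.mem_ker.1 hkk]
      simp only [e]
  obtain ⟨R₀, hR₀, hRE₀, hR₀map⟩ := hcontain hRE hR₁ hREle
  rw [hR₁map] at hR₀map
  obtain ⟨t, ht, htπ⟩ : hf.barTau ∈ R₀.map π :=
    hR₀map ▸ Subgroup.mem_sup_right (Subgroup.mem_zpowers _)
  have ht3 : t ^ 3 = 1 := eq_one_of_ker hk hR₀ (pow_mem ht 3) (by
    rw [map_pow, htπ, hf.barTau_cube])
  have htE : ∀ v, t * E v * t⁻¹ = E (move blockCycle (fun _ => false) v) := fun v =>
    injOn_pGroup hk hR₀ (mul_mem (mul_mem ht (hRE₀ (hE v))) (inv_mem ht)) (hRE₀ (hE _)) (by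
      rw [map_mul, map_mul, map_inv, htπ, hEπ, hEπ, hf.barTau_conj])
  -- upper bound
  have hup : finrank K (fixEnd (ρ t)) ≤ 86 := by
    obtain ⟨s, hs⟩ := hf.barTau_eq_conj
    obtain ⟨s', rfl⟩ := hπ s
    have hx0 : (s' * E ![1, 1, 1, 0, 0, 0] * s'⁻¹) ^ 3 ^ 1 = 1 := by
      rw [pow_one, conj_pow, hE3, mul_one, mul_inv_cancel]
    obtain ⟨k, -, hkc⟩ := exists_conj_of_eq hk (a := 1) (b := 1) (x := t) (by rw [pow_one]; exact ht3)
      hx0 (by rw [map_mul, map_mul, map_inv, htπ, hEπ, hs])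
    have e86 : finrank K (fixEnd (ρ (E ![1, 1, 1, 0, 0, 0]))) = 86 := by
      rw [block6_three, hfixsum, hn_eq]
      decide
    refine le_trans ?_ e86.le
    refine finrank_fixEnd_le (U := ρ (s'⁻¹ * k)) (rho_injective' ρ _) ?_
    rw [← map_mul, ← map_mul]
    congr 1
    calc s'⁻¹ * k * t = s'⁻¹ * (k * t * k⁻¹) * k := by group
      _ = s'⁻¹ * (s' * E ![1, 1, 1, 0, 0, 0] * s'⁻¹) * k := by rw [hkc]
      _ = _ := by group
  -- weights fixed by the three-cycle
  have htriv : ∀ x, FixSix x → ∀ u ∈ O.Wt x, ρ t u = u := by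
    intro x hx
    obtain ⟨r, y, hr, hry, hry', hyc, hy3⟩ := hf.exists_turn hx
    have hrE : ∀ v, r * hf.bar v * r⁻¹ = hf.bar (move blockFour (twist x) v) := hf.turn_conj hr
    let B : Subgroup (H ⧸ N) := B₀ ⊔ Subgroup.zpowers y
    have hyE : ∀ z ∈ EQ, y * z * y⁻¹ ∈ EQ := fun z hz => by
      have hrinv : r⁻¹ * z * r ∈ EQ := by
        have hn := Subgroup.mem_normalizer_iff''.1 (mem_normalizer_of_conj (hconjEQ hrE)) z
        exact hn.1 hz
      rw [← hry, show r * hf.barTau * r⁻¹ * z * (r * hf.barTau * r⁻¹)⁻¹ =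
        r * (hf.barTau * (r⁻¹ * z * r) * hf.barTau⁻¹) * r⁻¹ by group]
      exact hconjEQ hrE _ (hconjEQ hf.barTau_conj _ hrinv)
    have hytau : ∀ z ∈ Subgroup.zpowers hf.barTau, y * z * y⁻¹ ∈ B₀ := by
      rintro _ ⟨j, rfl⟩
      refine Subgroup.mem_sup_right ⟨j, ?_⟩
      exact eq_mul_inv_of_mul_eq ((Commute.zpow_right hyc j).symm.eq)
    have hB : IsPGroup 3 B :=
      isPGroup_sup_zpowers hB₀ hy3
        (conj_mem_sup (fun z hz => Subgroup.mem_sup_left (hyE z hz)) hytau)
    obtain ⟨R', hR', hR'map⟩ := exists_lift_subgroup hk (hle B) hB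
    obtain ⟨R, hR, hR₀R, hRmap⟩ := hcontain hR₀ hR' (by rw [hR'map, hR₀map]; exact le_sup_left)
    rw [hR'map] at hRmap
    have hrB : ∀ z ∈ B, r * z * r⁻¹ ∈ B := by
      refine conj_mem_sup (conj_mem_sup (fun z hz => ?_) ?_) ?_
      · exact Subgroup.mem_sup_left (Subgroup.mem_sup_left (hconjEQ hrE z hz))
      · rintro _ ⟨j, rfl⟩
        exact Subgroup.mem_sup_right ⟨j, by show y ^ j = _; rw [← hry, conj_zpow]⟩
      · rintro _ ⟨j, rfl⟩
        refine Subgroup.mem_sup_left (Subgroup.mem_sup_right ⟨-j, ?_⟩)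
        show hf.barTau ^ (-j) = r * y ^ j * r⁻¹
        rw [← conj_zpow, hry', inv_zpow, zpow_neg]
    obtain ⟨r₀, hr₀⟩ := hπ r
    obtain ⟨h, hh, hnR⟩ := exists_lift_normalizer hk hR (h₀ := r₀) fun z hz => by
      rw [hr₀, hRmap]
      exact hrB _ (hRmap ▸ ⟨z, hz, rfl⟩)
    obtain ⟨w, hw, hwπ⟩ : y ∈ R.map π := hRmap ▸ Subgroup.mem_sup_right (Subgroup.mem_zpowers _)
    have hhπ : π h = r := hh.trans hr₀
    have e1 : h * t * h⁻¹ = w := injOn_pGroup hk hR (hnR t (hR₀R ht)) hw (by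
      rw [map_mul, map_mul, map_inv, hhπ, htπ, hwπ, hry])
    have e2 : h * w * h⁻¹ = t⁻¹ := injOn_pGroup hk hR (hnR w hw) (inv_mem (hR₀R ht)) (by
      rw [map_mul, map_mul, map_inv, hhπ, hwπ, hry', map_inv, htπ])
    have e3 : t * w = w * t := injOn_pGroup hk hR (mul_mem (hR₀R ht) hw) (mul_mem hw (hR₀R ht)) (by
      rw [map_mul, map_mul, htπ, hwπ, hyc])
    have e4 : ∀ v, h * E v * h⁻¹ = E (move blockFour (twist x) v) := fun v =>
      injOn_pGroup hk hR (hnR _ (hR₀R (hRE₀ (hE v)))) (hR₀R (hRE₀ (hE _))) (by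
        rw [map_mul, map_mul, map_inv, hhπ, hEπ, hEπ, hrE])
    let M : Submonoid H := { carrier := {g | ∀ u ∈ O.Wt x, ρ g u ∈ O.Wt x}
                             one_mem' := fun u hu => by rw [map_one]; exact hu
                             mul_mem' := fun {a b} ha hb u hu => by
                               rw [map_mul, Module.End.mul_apply]; exact ha _ (hb u hu) }
    have htM : t ∈ M := fun u hu => by
      have := (hmoves htE).map_mem O hu
      rwa [(goodWeight_orbit x).1 hx] at this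
    have hhM : h ∈ M := fun u hu => by
      have := (hmoves e4).map_mem O hu
      rwa [(four_facts x hx).2.2.2.2] at this
    have hhiM : h⁻¹ ∈ M := by
      obtain ⟨j, hj⟩ : ∃ j : ℕ, h ^ j = h⁻¹ := by
        have := (isOfFinOrder_of_finite h).mem_powers_iff_mem_zpowers.2
          (inv_mem (Subgroup.mem_zpowers h))
        exact this
      exact hj ▸ pow_mem hhM j
    have hwM : w ∈ M := e1 ▸ mul_mem (mul_mem hhM htM) hhiM
    let ρW : M →* Module.End K (O.Wt x) :=
      { toFun := fun g => (ρ (g : H)).restrict g.2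
        map_one' := by ext; simp
        map_mul' := fun a b => by ext; simp }
    have hdim2 : finrank K (O.Wt x) ≤ 2 := by
      have h6 : supp6 x = 6 := by
        apply Fin.ext
        show (Finset.univ.filter fun i => x i ≠ 0).card = 6
        rw [Finset.filter_true_of_mem fun i _ => hx.1 i]
        rfl
      have := hn x
      rw [h6, hn_eq] at this
      exact this.le
    have hA : ρW ⟨t, htM⟩ ^ 3 = 1 := by
      rw [← map_pow, show (⟨t, htM⟩ : M) ^ 3 = 1 from Subtype.ext ht3, map_one]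
    have hw3 : w ^ 3 = 1 := eq_one_of_ker hk hR (pow_mem hw 3) (by rw [map_pow, hwπ, hy3])
    have hB : ρW ⟨w, hwM⟩ ^ 3 = 1 := by
      rw [← map_pow, show (⟨w, hwM⟩ : M) ^ 3 = 1 from Subtype.ext hw3, map_one]
    have h1 := plane_trivial h3 hz hdim2 (A := ρW ⟨t, htM⟩) (B := ρW ⟨w, hwM⟩)
      (R := ρW ⟨h, hhM⟩) (fun a b e => Subtype.ext (rho_injective' ρ h (congrArg Subtype.val e)))
      hA hB (by rw [← map_mul, ← map_mul]; exact congrArg ρW (Subtype.ext e3))
      (by rw [← map_mul, ← map_mul]; exact congrArg ρW (Subtype.ext (by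
        show h * t = w * h
        rw [← e1, inv_mul_cancel_right])))
      (by rw [← map_mul, ← map_mul, ← map_mul]; exact congrArg ρW (Subtype.ext (by
        show h * w = t * t * h
        have : t⁻¹ = t * t := inv_eq_of_mul_eq_one_left (by rw [← pow_two, ← pow_succ, ht3])
        rw [← this, ← e2, inv_mul_cancel_right])))
    intro u hu
    exact congrArg Subtype.val (LinearMap.ext_iff.1 h1 ⟨u, hu⟩)
  have hlow := O.fix_lower (hmoves htE) (by
    rw [← map_mul, ← map_mul, ← pow_two, ← pow_succ, ht3, map_one]) htriv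
  simp only [hn, hn_eq] at hlow
  rw [goodWeight_sum] at hlow
  omega

end CfsgLib.AltSectEight57
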