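import Cfsg.Agent.AltSectEight57.Sylow

/-!
# Elementary abelian sections of 3-subgroups of E8
-/

set_option autoImplicit false
set_option linter.style.haveILetI false

namespace CfsgLib.AltSectEight57

open Cfsg.Lie CfsgLib.Chevalley CfsgLib.ChevTorus CfsgLib.AltSection57
open scoped MatrixGroups

variable {L : Type*} [Field L] [Fintype L]

theorem torC_injective : Function.Injective (torHom chevE8 L) := by
  classical
  have h1 : Nat.card (Fin chevE8.rank → Lˣ) = (Fintype.card L - 1) ^ 8 := by
    rw [Nat.card_eq_fintype_card, Fintype.card_fun, Fintype.card_units, Fintype.card_fin]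
    exact congrArg (fun n => (Fintype.card L - 1) ^ n) (show chevE8.rank = 8 from rfl)
  have h2 : Nat.card (torHom chevE8 L).range = (Fintype.card L - 1) ^ 8 := by
    rw [← diagonalSubgroup_eq_range goodE8, ← card_torus goodE8, card_torus8]
  haveI : Finite (Fin chevE8.rank → Lˣ) := Pi.finite
  have hsurj : Function.Surjective (torHom chevE8 L).rangeRestrict :=
    MonoidHom.rangeRestrict_surjective _
  have hb : Function.Bijective (torHom chevE8 L).rangeRestrict := by
    rw [Nat.bijective_iff_surjective_and_card]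
    exact ⟨hsurj, h1.trans h2.symm⟩
  intro x y e
  exact hb.1 (Subtype.ext e)

/-- The torus has at most `3 ^ 8` elements of order dividing three. -/
theorem card_torus_cube :
    Nat.card {t : ↥(chevE8.group L) // t ∈ torus chevE8 L ∧ t ^ 3 = 1} ≤ 3 ^ 8 := by
  classical
  have hz : Nat.card {z : Lˣ // z ^ 3 = 1} ≤ 3 := by
    have h := card_rootsOfUnity L 3
    refine le_trans (le_of_eq (Nat.card_congr ?_)) h
    exact Equiv.subtypeEquivRight fun z => (mem_rootsOfUnity 3 z).symm
  have hc : ∀ t : {t : ↥(chevE8.group L) // t ∈ torus chevE8 L ∧ t ^ 3 = 1},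
      ∃ c : Fin chevE8.rank → {z : Lˣ // z ^ 3 = 1},
        torHom chevE8 L (fun j => (c j : Lˣ)) = (t : GL chevE8.Idx L) := by
    rintro ⟨t, ht, ht3⟩
    have h := Subgroup.mem_subgroupOf.1 ht
    rw [diagonalSubgroup_eq_range goodE8] at h
    obtain ⟨c, hc⟩ := h
    have hc3 : c ^ 3 = 1 := torC_injective (by
      rw [map_pow, map_one, hc, ← Subgroup.coe_pow, ht3, Subgroup.coe_one])
    exact ⟨fun j => ⟨c j, congrFun hc3 j⟩, hc⟩
  choose f hf using hc
  refine (Nat.card_le_card_of_injective f fun a b e => ?_).trans ?_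
  · refine Subtype.ext (Subtype.ext ?_)
    rw [← hf a, ← hf b, e]
  · rw [Nat.card_fun, Nat.card_fin]
    exact Nat.pow_le_pow_left hz 8

/-- An elementary abelian image of a 3-subgroup has order at most `3 ^ 13`. -/
theorem card_image_le (h3 : 3 ∣ Fintype.card L - 1) {H : Type*} [Group H]
    (ρ : H →* ↥(chevE8.group L)) (hρ : Function.Injective ρ) (U : Subgroup H)
    (hU : IsPGroup 3 U) {E : Type*} [CommGroup E] (hE : ∀ e : E, e ^ 3 = 1) (f : U →* E) :
    Nat.card f.range ≤ 3 ^ 13 := by
  haveI : Fact (Nat.Prime 3) := ⟨Nat.prime_three⟩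
  haveI : Finite H := Finite.of_injective ρ hρ
  obtain ⟨P, hP⟩ := exists_goodP3 h3
  obtain ⟨g, hg⟩ := exists_conj_le hP.full (hU.map ρ)
  let σ : U →* ↥(chevE8.group L) := (MulAut.conj g).toMonoidHom.comp (ρ.comp U.subtype)
  have hσ : Function.Injective σ :=
    (MulAut.conj g).injective.comp (hρ.comp U.subtype_injective)
  have hσP : σ.range ≤ P := by
    rintro _ ⟨z, rfl⟩
    exact hg _ ⟨z, z.2, rfl⟩
  set A := (torus chevE8 L).comap σ with hA
  have hAidx : A.index ≤ 243 := by
    rw [hA, Subgroup.index_comap]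
    have := Subgroup.relIndex_le_of_le_right (H := torus chevE8 L) hσP
      (by rw [hP.index]; norm_num)
    rwa [hP.index] at this
  let f' := f.rangeRestrict
  have hAc : ∀ a b : A, a * b = b * a := fun a b => Subtype.ext (hσ (by
    rw [Subgroup.coe_mul, Subgroup.coe_mul, map_mul, map_mul]
    exact torus_comm goodE8 _ a.2 _ b.2))
  letI : CommGroup A := { (inferInstance : Group A) with mul_comm := hAc }
  have himg : Nat.card (A.map f') ≤ 3 ^ 8 := by
    let g' : A →* f.range := f'.comp A.subtype
    have hle : (powMonoidHom (α := A) 3).range ≤ g'.ker := by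
      rintro _ ⟨a, rfl⟩
      rw [MonoidHom.mem_ker, powMonoidHom_apply, map_pow]
      exact Subtype.ext (hE _)
    have h1 : Nat.card (A.map f') = g'.ker.index := by
      rw [Subgroup.index_ker, show g'.range = A.map f' by
        rw [MonoidHom.range_comp, Subgroup.range_subtype]]
    have h2 : g'.ker.index ≤ Nat.card (powMonoidHom (α := A) 3).ker := by
      have e1 := Subgroup.card_mul_index (powMonoidHom (α := A) 3).ker
      have e2 := Subgroup.card_mul_index (powMonoidHom (α := A) 3).range
      rw [Subgroup.index_ker] at e1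
      have e3 : (powMonoidHom (α := A) 3).range.index = Nat.card (powMonoidHom (α := A) 3).ker :=
        Nat.eq_of_mul_eq_mul_left (Nat.card_pos (α := (powMonoidHom (α := A) 3).range))
          (e2.trans (e1.symm.trans (mul_comm _ _)))
      rw [← e3]
      exact Nat.le_of_dvd (Nat.pos_of_ne_zero Subgroup.index_ne_zero_of_finite)
        (Subgroup.index_dvd_of_le hle)
    rw [h1]
    refine h2.trans ((Nat.card_le_card_of_injective
      (fun a : (powMonoidHom (α := A) 3).ker => (⟨σ ((a : A) : U), (a : A).2, ?_⟩ :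
        {t : ↥(chevE8.group L) // t ∈ torus chevE8 L ∧ t ^ 3 = 1})) fun a b e => ?_).trans
      card_torus_cube)
    · have ha : (a : A) ^ 3 = 1 := a.2
      rw [← map_pow, ← Subgroup.coe_pow, ha, Subgroup.coe_one, map_one]
    · exact Subtype.ext (Subtype.ext (hσ (congrArg Subtype.val e)))
  have hmul := Subgroup.card_mul_index (A.map f')
  have hdvd := Subgroup.index_map_dvd (H := A) (f := f') f.rangeRestrict_surjective
  calc Nat.card f.range = Nat.card (A.map f') * (A.map f').index := hmul.symm
    _ ≤ 3 ^ 8 * 243 := Nat.mul_le_mul himg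
        ((Nat.le_of_dvd (Nat.pos_of_ne_zero Subgroup.index_ne_zero_of_finite) hdvd).trans hAidx)
    _ = 3 ^ 13 := by norm_num

end CfsgLib.AltSectEight57
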