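import Cfsg.Agent.AltMinDeg.Main
import Mathlib.GroupTheory.Transfer
import Mathlib.GroupTheory.Sylow

/-!
# The 3-part of the kernel of a minimal group over the alternating group of degree 18

If elementary abelian images of 3-subgroups have order at most `3 ^ 13`, the 3-part of the kernel
is central, and modulo the rest of the kernel the group is a central extension by a 3-group.
-/

set_option autoImplicit false
set_option linter.style.haveILetI false

namespace CfsgLib.AltSectEight57

open CfsgAltMinDeg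
open scoped commutatorElement

/-- A minimal group over `A₁₈` with small elementary sections of 3-subgroups. -/
structure Small (H : Type) [Group H] where
  /-- the map onto the alternating group -/
  φ : H →* alternatingGroup (Fin 18)
  surj : Function.Surjective φ
  minimal : ∀ S : Subgroup H, S.map φ = ⊤ → S = ⊤
  elem : ∀ (U : Subgroup H), IsPGroup 3 U → ∀ (E : Type) [CommGroup E], (∀ e : E, e ^ 3 = 1) →
    ∀ f : U →* E, Nat.card f.range ≤ 3 ^ 13

variable {H : Type} [Group H] [Finite H] (X : Small H)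
include X

theorem Small.perfect : commutator H = ⊤ :=
  perfect_of_minimal X.φ (by norm_num) X.surj X.minimal

omit [Finite H] X in
/-- In a perfect group an element with central commutators is central. -/
theorem central_of_commutators (hperf : commutator H = ⊤) {u : H}
    (hu : ∀ h : H, ⁅h, u⁆ ∈ Subgroup.center H) : u ∈ Subgroup.center H := by
  have hc : ∀ {z : H}, z ∈ Subgroup.center H → ∀ g, g * z = z * g := fun hz g =>
    Subgroup.mem_center_iff.1 hz g
  let f : H →* Subgroup.center H :=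
    MonoidHom.mk' (fun h => ⟨⁅h, u⁆, hu h⟩) fun g h => Subtype.ext (by
      show ⁅g * h, u⁆ = ⁅g, u⁆ * ⁅h, u⁆
      have e : ⁅g * h, u⁆ = g * ⁅h, u⁆ * (u * g⁻¹ * u⁻¹) := by
        simp [commutatorElement_def, mul_assoc]
      rw [e, hc (hu h) g, mul_assoc, hc (hu h) ⁅g, u⁆]
      simp [commutatorElement_def, mul_assoc])
  refine Subgroup.mem_center_iff.2 fun g => ?_
  letI : CommGroup (Subgroup.center H) :=
    { (inferInstance : Group (Subgroup.center H)) with
      mul_comm := fun a b => Subtype.ext (hc b.2 a) }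
  have := congrArg Subtype.val (trivial_hom_of_perfect hperf f g)
  exact commutatorElement_eq_one_iff_mul_comm.1 this

/-- A normal 3-subgroup inside the kernel is central. -/
theorem Small.normal_three_central (S : Subgroup H) [hSn : S.Normal] (hS : IsPGroup 3 S) :
    S ≤ Subgroup.center H := by
  classical
  haveI : Fact (Nat.Prime 3) := ⟨Nat.prime_three⟩
  by_contra hSZ
  let Z : Subgroup H := Subgroup.center H
  let q := QuotientGroup.mk' Z
  let U : Subgroup H :=
    { carrier := {u | u ∈ S ∧ (∀ v ∈ S, Commute (q u) (q v)) ∧ q u ^ 3 = 1}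
      one_mem' := ⟨one_mem _, fun v _ => by simp, by simp⟩
      mul_mem' := fun {a b} ha hb => ⟨mul_mem ha.1 hb.1, fun v hv => by
        rw [map_mul]; exact (ha.2.1 v hv).mul_left (hb.2.1 v hv), by
        rw [map_mul, (ha.2.1 b hb.1).mul_pow, ha.2.2, hb.2.2, one_mul]⟩
      inv_mem' := fun {a} ha => ⟨inv_mem ha.1, fun v hv => by
        rw [map_inv]; exact (ha.2.1 v hv).inv_left, by rw [map_inv, inv_pow, ha.2.2, inv_one]⟩ }
  have hUn : U.Normal := ⟨fun u hu g => ⟨hSn.conj_mem u hu.1 g, fun v hv => by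
      have hv' : g⁻¹ * v * g ∈ S := by simpa using hSn.conj_mem v hv g⁻¹
      have := (hu.2.1 _ hv').map (MulAut.conj (q g)).toMonoidHom
      simpa [map_mul, mul_assoc] using this,
    by rw [map_mul, map_mul, map_inv, conj_pow, hu.2.2, mul_one, mul_inv_cancel]⟩⟩
  obtain ⟨u₀, hu₀, hu₀Z⟩ : ∃ u ∈ U, u ∉ Z := by
    haveI : Nontrivial (S.map q) := by
      rw [Subgroup.nontrivial_iff_ne_bot]
      intro e
      rw [Subgroup.map_eq_bot_iff, QuotientGroup.ker_mk'] at e
      exact hSZ e
    have hP : IsPGroup 3 (S.map q) := hS.map q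
    haveI := hP.center_nontrivial
    obtain ⟨k, hk⟩ := IsPGroup.iff_card.1 (hP.to_subgroup (Subgroup.center (S.map q)))
    have hk0 : 0 < k := by
      refine Nat.pos_of_ne_zero fun e => ?_
      have h1 := Finite.one_lt_card (α := Subgroup.center (S.map q))
      rw [hk, e, pow_zero] at h1
      exact lt_irrefl 1 h1
    obtain ⟨c, hc⟩ := exists_prime_orderOf_dvd_card' (G := Subgroup.center (S.map q)) 3
      (hk ▸ dvd_pow_self 3 hk0.ne')
    obtain ⟨u, hu, e⟩ := (c : S.map q).2
    have hord : orderOf (q u) = 3 := by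
      rw [e, Subgroup.orderOf_coe, Subgroup.orderOf_coe]; exact hc
    refine ⟨u, ⟨hu, fun v hv => ?_, ?_⟩, fun hZ => ?_⟩
    · have := Subgroup.mem_center_iff.1 c.2 ⟨q v, Subgroup.mem_map_of_mem q hv⟩
      exact (Commute.symm (by
        show q v * q u = q u * q v
        rw [e]; exact congrArg Subtype.val this))
    · rw [← hord, pow_orderOf_eq_one]
    · rw [show q u = 1 from (QuotientGroup.eq_one_iff u).2 hZ, orderOf_one] at hord
      omega
  let E : Subgroup (H ⧸ Z) := U.map q
  haveI hEn : E.Normal := hUn.map q (QuotientGroup.mk'_surjective Z)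
  have hEc : ∀ x y : E, x * y = y * x := by
    rintro ⟨_, u, hu, rfl⟩ ⟨_, v, hv, rfl⟩
    exact Subtype.ext (hu.2.1 v hv.1)
  have hE3 : ∀ x : E, x ^ 3 = 1 := by
    rintro ⟨_, u, hu, rfl⟩
    exact Subtype.ext hu.2.2
  letI : CommGroup E := { (inferInstance : Group E) with mul_comm := hEc }
  have hUS : U ≤ S := fun u hu => hu.1
  have hcard : Nat.card E ≤ 3 ^ 13 := by
    refine le_trans (le_of_eq ?_) (X.elem U (hS.to_le hUS) E hE3 (q.subgroupMap U))
    rw [MonoidHom.range_eq_top.2 (q.subgroupMap_surjective U), Subgroup.card_top]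
  let α : H →* MulAut E := (MulAut.conjNormal (H := E)).comp q
  rcases normal_dichotomy X.φ (by norm_num) X.surj X.minimal α.ker with hk | hk
  · obtain ⟨d, hEd, M, hM, -⟩ := exists_matrix_rep (E := E) 3 hE3 α
    let F := AlgebraicClosure (ZMod 3)
    let ρ' : H →* Module.End F (Fin d → F) :=
      (Matrix.toLinAlgEquiv' (R := F) (n := Fin d)).toRingEquiv.toMonoidHom.comp
        ((algebraMap (ZMod 3) F).mapMatrix.toMonoidHom.comp M)
    have hker : ρ'.ker ≤ X.φ.ker := by
      refine le_trans (fun h hh => hM ?_) hk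
      rw [MonoidHom.mem_ker] at hh ⊢
      apply Matrix.map_injective (f := algebraMap (ZMod 3) F) (RingHom.injective _)
      show (algebraMap (ZMod 3) F).mapMatrix (M h) = (algebraMap (ZMod 3) F).mapMatrix 1
      apply (Matrix.toLinAlgEquiv' (R := F) (n := Fin d)).injective
      show ρ' h = _
      rw [hh, map_one, map_one]
    have hd := (CfsgAltMinDeg.good 18 (by norm_num) F (Fin d → F) H ρ' X.φ X.surj hker).1
    rw [Module.finrank_fin_fun] at hd
    have h2 : 3 ^ 16 ≤ Nat.card E := hEd ▸ Nat.pow_le_pow_right (by norm_num) (by omega)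
    omega
  · refine hu₀Z (central_of_commutators X.perfect fun h => ?_)
    have hh : h ∈ α.ker := hk ▸ Subgroup.mem_top h
    have he := congrArg (fun a : MulAut E => ((a ⟨q u₀, u₀, hu₀, rfl⟩ : E) : H ⧸ Z))
      (MonoidHom.mem_ker.1 hh)
    have he' : q h * q u₀ * (q h)⁻¹ = q u₀ := he
    rw [← QuotientGroup.eq_one_iff]
    show q ⁅h, u₀⁆ = 1
    rw [map_commutatorElement, commutatorElement_def, he', mul_inv_cancel]

/-- The complement of the central 3-part of the kernel. -/
theorem Small.exists_complement :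
    ∃ N : Subgroup H, N.Normal ∧ N ≤ X.φ.ker ∧ ¬ 3 ∣ Nat.card N ∧
      (∀ z ∈ X.φ.ker, ∀ g : H, ⁅g, z⁆ ∈ N) ∧
      ∀ z ∈ X.φ.ker, ∃ k : ℕ, z ^ 3 ^ k ∈ N := by
  haveI : Fact (Nat.Prime 3) := ⟨Nat.prime_three⟩
  set K := X.φ.ker
  let P : Sylow 3 K := default
  set S : Subgroup H := (P : Subgroup K).map K.subtype with hSdef
  have hSK : S ≤ K := Subgroup.map_subtype_le _
  have hS : IsPGroup 3 S := P.2.map K.subtype
  have hnorm : Subgroup.normalizer (S : Set H) = ⊤ := by
    have h := Sylow.normalizer_sup_eq_top P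
    refine X.minimal _ ?_
    have h' := congrArg (Subgroup.map X.φ) h
    rwa [Subgroup.map_sup, (Subgroup.map_eq_bot_iff K).2 le_rfl, sup_bot_eq,
      Subgroup.map_top_of_surjective _ X.surj] at h'
  haveI : S.Normal := Subgroup.normalizer_eq_top_iff.1 hnorm
  have hcen := X.normal_three_central S hS
  have hP : Subgroup.normalizer ((P : Subgroup K) : Set K) ≤ Subgroup.centralizer (P : Subgroup K) :=
    fun g _ => Subgroup.mem_centralizer_iff.2 fun a ha => Subtype.ext
      (Subgroup.mem_center_iff.1 (hcen ⟨a, ha, rfl⟩) g).symm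
  set N₀ := (MonoidHom.transferSylow P hP).ker
  have hcomp : Subgroup.IsComplement' N₀ (P : Subgroup K) :=
    MonoidHom.ker_transferSylow_isComplement' P hP
  have hndvd : ¬ 3 ∣ Nat.card N₀ := by
    have e : Nat.card N₀ = (P : Subgroup K).index := hcomp.index_eq_card.symm
    rw [e]
    exact P.not_dvd_index
  let N : Subgroup H := N₀.map K.subtype
  have hN : Nat.card N = Nat.card N₀ := Subgroup.card_map_of_injective K.subtype_injective
  have hmem : ∀ x (hx : x ∈ K), (¬ 3 ∣ orderOf x) → x ∈ N := by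
    intro x hx ho
    refine ⟨⟨x, hx⟩, ?_, rfl⟩
    rw [SetLike.mem_coe, MonoidHom.mem_ker]
    have h1 : (MonoidHom.transferSylow P hP ⟨x, hx⟩) ^ orderOf x = 1 := by
      rw [← map_pow, show (⟨x, hx⟩ : K) ^ orderOf x = 1 from Subtype.ext (by
        rw [Subgroup.coe_pow, Subgroup.coe_one, pow_orderOf_eq_one]), map_one]
    obtain ⟨k, hk⟩ := P.2 (MonoidHom.transferSylow P hP ⟨x, hx⟩)
    have h2 := Nat.dvd_gcd (orderOf_dvd_of_pow_eq_one h1) (orderOf_dvd_of_pow_eq_one hk)
    rw [(Nat.Coprime.pow_right k ((Nat.prime_three.coprime_iff_not_dvd.2 ho).symm)).gcd_eq_one]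
      at h2
    exact orderOf_eq_one_iff.1 (Nat.dvd_one.1 h2)
  have hNn : N.Normal := ⟨fun x hx g => by
    have hxK : x ∈ K := Subgroup.map_subtype_le N₀ hx
    refine hmem _ ((inferInstance : K.Normal).conj_mem x hxK g) ?_
    rw [show g * x * g⁻¹ = MulAut.conj g x from rfl, MulEquiv.orderOf_eq]
    intro h3
    refine hndvd (hN ▸ h3.trans ?_)
    have h4 := orderOf_dvd_natCard (⟨x, hx⟩ : N)
    rwa [Subgroup.orderOf_mk] at h4⟩
  have hdec : ∀ z ∈ K, ∃ n ∈ N, ∃ s ∈ S, z = n * s := by
    intro z hz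
    obtain ⟨⟨⟨n, hn⟩, ⟨s, hs⟩⟩, he, -⟩ := Subgroup.isComplement_iff_existsUnique.1 hcomp ⟨z, hz⟩
    exact ⟨n, ⟨n, hn, rfl⟩, s, ⟨s, hs, rfl⟩, (congrArg Subtype.val he).symm⟩
  refine ⟨N, hNn, Subgroup.map_subtype_le _, hN ▸ hndvd, fun z hz g => ?_, fun z hz => ?_⟩
  · obtain ⟨n, hn, s, hs, rfl⟩ := hdec z hz
    have e : ⁅g, n * s⁆ = g * n * g⁻¹ * n⁻¹ := by
      have hc : g * s = s * g := Subgroup.mem_center_iff.1 (hcen hs) g
      rw [commutatorElement_def, show g * (n * s) * g⁻¹ * (n * s)⁻¹ =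
        g * n * (s * g⁻¹ * s⁻¹) * n⁻¹ by group]
      have : s * g⁻¹ * s⁻¹ = g⁻¹ := by
        rw [mul_inv_eq_iff_eq_mul]
        calc s * g⁻¹ = g⁻¹ * (g * s) * g⁻¹ := by group
          _ = g⁻¹ * (s * g) * g⁻¹ := by rw [hc]
          _ = g⁻¹ * s := by group
      rw [this]
    rw [e]
    exact mul_mem (hNn.conj_mem n hn g) (inv_mem hn)
  · obtain ⟨n, hn, s, hs, rfl⟩ := hdec z hz
    obtain ⟨k, hk⟩ := hS ⟨s, hs⟩
    refine ⟨k, ?_⟩
    have hk' : s ^ 3 ^ k = 1 := congrArg Subtype.val hk
    rw [(show Commute n s from Subgroup.mem_center_iff.1 (hcen hs) n).mul_pow, hk', mul_one]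
    exact pow_mem hn _

end CfsgLib.AltSectEight57
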