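import Cfsg.Agent.AltSectEight57.DescentSeventeen
import Cfsg.Agent.AltSectEight57.Elementary
import Cfsg.Agent.AltSection57.Fusion
import Cfsg.Agent.ESevenOrders.Fusion

/-!
# No section of E8 has an element of order seventeen fused with its cube

Outside characteristic seventeen such an element would give a non-zero exponent vector modulo 17
whose values on the roots are invariant under tripling.
-/

set_option autoImplicit false
set_option linter.style.haveILetI false

namespace CfsgLib.AltSectEight57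

open Cfsg.Lie CfsgLib.Chevalley CfsgLib.ChevTorus CfsgLib.AltSection57
open scoped MatrixGroups

/-- The fusion pattern in the alternating groups of degree at least nineteen. -/
theorem pattern_seventeen {r : ℕ} (h : 19 ≤ r) : Pattern (alternatingGroup (Fin r)) 17 3 [1] :=
  pattern_alt_of_le h
    (x := perm ![1, 2, 3, 4, 5, 6, 7, 8, 9, 10, 11, 12, 13, 14, 15, 16, 0, 17, 18]
      ![16, 0, 1, 2, 3, 4, 5, 6, 7, 8, 9, 10, 11, 12, 13, 14, 15, 17, 18]
      (by decide) (by decide))
    (y := perm ![0, 3, 6, 9, 12, 15, 1, 4, 7, 10, 13, 16, 2, 5, 8, 11, 14, 18, 17]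
      ![0, 6, 12, 1, 7, 13, 2, 8, 14, 3, 9, 15, 4, 10, 16, 5, 11, 18, 17]
      (by decide) (by decide))
    (by decide +kernel) (by decide +kernel) (by decide +kernel) (by decide +kernel)
    (by decide +kernel)

/-- As `exists_torus_fusion`, with the conjugating element in the group. -/
theorem exists_torus_fusion_mem {D : ChevalleyDatum} {L : Type*} [Field L] [Finite L]
    {H A : Type*} [Group H] [Finite H] [Group A] (hW : GoodWeyl D) {ℓ : ℕ} [Fact ℓ.Prime]
    (hT : ℓ ^ (Nat.card (D.group L)).factorization ℓ ∣ Nat.card (torus D L))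
    (ρ : H →* ↥(D.group L)) (hρ : Function.Injective ρ) (φ : H →* A) (hφ : Function.Surjective φ)
    {a : ℕ} (hpat : Pattern A ℓ a [1]) :
    ∃ (c : Fin D.rank → Lˣ) (w : GL D.Idx L), w ∈ D.group L ∧ torC D c ^ ℓ = (1 : GL D.Idx L) ∧
      torC D c ≠ (1 : GL D.Idx L) ∧ w * torC D c * w⁻¹ = torC D c ^ a := by
  obtain ⟨x, y, hx, hx1, hy⟩ := hpat
  obtain ⟨v, w, hv, hv1, hwv⟩ := exists_lift
    (abelianPSubgroups_of_torus hT (torus_comm hW) ρ hρ) φ hφ hx
    (by simpa using hx1 1 (by simp)) hy
  obtain ⟨g, hg⟩ := exists_conj_mem hT (v := ρ v) (by rw [← map_pow, hv, map_one])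
  have hg' := Subgroup.mem_subgroupOf.1 hg
  rw [diagonalSubgroup_eq_range hW] at hg'
  obtain ⟨c, hc⟩ := hg'
  refine ⟨c, ((g * ρ w * g⁻¹ : ↥(D.group L)) : GL D.Idx L), (g * ρ w * g⁻¹).2, ?_⟩
  change torC D c = _ at hc
  rw [hc, ← Subgroup.coe_pow, ← Subgroup.coe_pow, ← Subgroup.coe_inv, ← Subgroup.coe_mul,
    ← Subgroup.coe_mul, ← Subgroup.coe_one (D.group L)]
  refine ⟨congrArg Subtype.val ?_, fun e => ?_, congrArg Subtype.val ?_⟩
  · rw [conj_pow, ← map_pow, hv, map_one, mul_one, mul_inv_cancel]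
  · have := Subtype.ext e
    rw [mul_inv_eq_one, mul_eq_left, ← map_one ρ] at this
    exact hv1 (hρ this)
  · rw [conj_pow, ← map_pow, ← hwv, map_mul, map_mul, map_inv]
    group

/-- A section of `E₈` has no element of order 17 fused with its cube, outside characteristic 17. -/
theorem no_pattern_E8_seventeen {F : Type*} [Field F] [Fintype F] {H A : Type*} [Group H]
    [Finite H] [Group A] (h : (17 : F) ≠ 0) (ι : H →* ↥(chevE8.group F))
    (hι : Function.Injective ι) (φ : H →* A) (hφ : Function.Surjective φ) :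
    ¬ Pattern A 17 3 [1] := fun hpat => by
  classical
  haveI : NeZero ((17 : ℕ) : F) := ⟨by simpa using h⟩
  haveI : Fact (Nat.Prime 17) := ⟨by norm_num⟩
  obtain ⟨ζ, hζ, hfin⟩ := exists_extension F 17
  haveI := hfin
  letI := Fintype.ofFinite (CyclotomicField 17 F)
  have hT : 17 ^ (Nat.card (chevE8.group (CyclotomicField 17 F))).factorization 17 ∣
      Nat.card (torus chevE8 (CyclotomicField 17 F)) :=
    pow_dvd_torus (Q := Fintype.card (CyclotomicField 17 F)) (N := 120)
      (degs := [2, 8, 12, 14, 18, 20, 24, 30]) card_group8 card_torus8 Fintype.one_lt_card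
      (dvd_card_sub_one hζ) (by decide)
  obtain ⟨c, w, hwG, hc, hc1, hw⟩ := exists_torus_fusion_mem goodE8 hT
    ((groupMap goodE8.good (algebraMap F (CyclotomicField 17 F))).comp ι)
    ((groupMap_injective goodE8.good _).comp hι) φ hφ hpat
  have hpow : ∀ j : ℕ, torC chevE8 c ^ j = torC chevE8 (c ^ j) :=
    fun j => (map_pow (torHom chevE8 _) c j).symm
  have hc' : c ^ 17 = 1 := torC_injective (L := CyclotomicField 17 F) (by
    rw [map_pow, map_one]
    exact hc)
  choose t ht using fun k => exists_xi hζ (congrFun hc' k : c k ^ 17 = 1)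
  have hct : c = fun k => xi hζ (t k) := funext fun k => (ht k).symm
  obtain ⟨u, hu, -⟩ := ESevenOrders.exists_weyl_of_conj goodE8 roots8 hwG
  have hr := hu c (c ^ 3) (by rw [← hpow, ← hw, inv_mul_cancel_right])
  let s : Fin 8 → ZMod 17 := fun i => ∑ k : Fin chevE8.rank, t k * (ent cm8 k i : ZMod 17)
  have hval : ∀ r : Root chevE8, torVal c (Sum.inr r) = xi hζ (val17 s (r : ℕ)) := by
    intro r
    rw [hct, torVal_xi]
    refine congrArg (xi hζ) ?_
    have e1 : ∀ k : Fin chevE8.rank, t k * (chevE8.cartan k r : ZMod 17) =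
        ∑ i : Fin chevE8.rank,
          ((Weyl.corootAt chevE8 r i : ℤ) : ZMod 17) * (t k * (ent cm8 k i : ZMod 17)) := by
      intro k
      rw [cartan_eq8, Int.cast_sum, Finset.mul_sum]
      refine Finset.sum_congr rfl fun i _ => ?_
      rw [Int.cast_mul]
      ring
    rw [Finset.sum_congr rfl fun k _ => e1 k, Finset.sum_comm]
    refine Finset.sum_congr rfl fun i _ => ?_
    rw [← Finset.mul_sum, ← coI_eq (r : Fin 240) i]
  have htor : Tripled s := by
    refine ⟨roots8.rootPerm u, fun r => ?_⟩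
    apply xi_injective hζ
    rw [← hval r, ← hr r]
    show _ = torVal (c ^ 3) (Sum.inr (roots8.rootPerm u r))
    have e3 : ∀ a : chevE8.Idx, torVal (c ^ 3) a = torVal c a ^ 3 := fun a => by
      simp only [torVal, Pi.pow_apply, ← Finset.prod_pow]
      refine Finset.prod_congr rfl fun k _ => ?_
      rw [← zpow_natCast (c k) 3, ← zpow_natCast (c k ^ _) 3, ← zpow_mul, ← zpow_mul, mul_comm]
    rw [e3, hval, xi_pow, Nat.cast_ofNat]
    rfl
  have hs := eq_zero_of_tripled s htor
  apply hc1
  refine Units.ext ?_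
  rw [coe_torC, Units.val_one, ← Matrix.diagonal_one]
  congr 1
  funext a
  rcases a with i | r
  · simp [torVal]
  · rw [hval, hs]
    simp [val17, xi_zero]

end CfsgLib.AltSectEight57
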