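import Cfsg.Agent.AltSectEight57.Eighteen
import Cfsg.Agent.AltSectEight57.Elementary
import Cfsg.Agent.AltSectEight57.Seventeen
import Mathlib.Algebra.Group.Shrink
import Mathlib.LinearAlgebra.Dimension.Constructions

/-!
# Alternating sections of E8 have degree at most 17, or 18 in characteristic 3
-/

set_option autoImplicit false
set_option linter.style.haveILetI false

namespace CfsgLib.AltSectEight57

open Cfsg.Lie CfsgLib.Chevalley CfsgLib.ChevTorus CfsgLib.AltSection57
open scoped MatrixGroups

/-- A subgroup minimal among those mapping onto the image. -/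
theorem exists_minimal_onto {H A : Type*} [Group H] [Finite H] [Group A] (φ : H →* A)
    (hφ : Function.Surjective φ) :
    ∃ S : Subgroup H, Function.Surjective (φ.comp S.subtype) ∧
      ∀ T : Subgroup S, T.map (φ.comp S.subtype) = ⊤ → T = ⊤ := by
  classical
  have hex : ∃ n, ∃ S : Subgroup H, S.map φ = ⊤ ∧ Nat.card S = n :=
    ⟨_, ⊤, Subgroup.map_top_of_surjective φ hφ, rfl⟩
  obtain ⟨S, hS, hn⟩ := Nat.find_spec hex
  refine ⟨S, ?_, fun T hT => ?_⟩
  · rw [← MonoidHom.range_eq_top, MonoidHom.range_comp, Subgroup.range_subtype, hS]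
  · refine Subgroup.eq_top_of_le_card T ?_
    have h1 := Nat.find_min' hex ⟨T.map S.subtype, by rw [Subgroup.map_map, hT], rfl⟩
    rw [← hn, Subgroup.card_map_of_injective S.subtype_injective] at h1
    exact h1

/-- No alternating section of degree 18 over a field with a cube root of unity. -/
theorem no_eighteen_of_root {L : Type*} [Field L] [Fintype L] {ζ : Lˣ} (hζ : IsPrimitiveRoot ζ 3)
    (h3 : (3 : L) ≠ 0) {H : Type*} [Group H] [Finite H] (ι : H →* ↥(chevE8.group L))
    (hι : Function.Injective ι) (φ : H →* alternatingGroup (Fin 18))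
    (hφ : Function.Surjective φ) : False := by
  classical
  have hQ := dvd_card_sub_one hζ
  obtain ⟨S, hS, hmin⟩ := exists_minimal_onto φ hφ
  let e : Shrink.{0} S ≃* S := Shrink.mulEquiv
  let σ : Shrink.{0} S →* ↥(chevE8.group L) := (ι.comp S.subtype).comp e.toMonoidHom
  have hσ : Function.Injective σ := (hι.comp S.subtype_injective).comp e.injective
  let X : Small (Shrink.{0} S) :=
    { φ := (φ.comp S.subtype).comp e.toMonoidHom
      surj := hS.comp e.surjective
      minimal := fun T hT => by
        rw [← Subgroup.map_map] at hT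
        have := hmin _ hT
        rwa [← Subgroup.map_top_of_surjective e.toMonoidHom e.surjective,
          (Subgroup.map_injective e.injective).eq_iff] at this
      elem := fun U hU E _ hE f => card_image_le hQ σ hσ U hU hE f }
  let ρ : Shrink.{0} S →* Module.End L (chevE8.Idx → L) :=
    ((Matrix.toLinAlgEquiv' (R := L) (n := chevE8.Idx)).toAlgHom.toRingHom.toMonoidHom).comp
      ((Units.coeHom _).comp ((chevE8.group L).subtype.comp σ))
  have hρ : Function.Injective ρ := fun a b h =>
    hσ (Subtype.ext (Units.ext ((Matrix.toLinAlgEquiv' (R := L)).injective h)))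
  have hfix : ∀ x, fixEnd (ρ x) = fixSp (σ x : GL chevE8.Idx L) := fun x => by
    ext v
    rw [mem_fixEnd, mem_fixSp]
    rfl
  have hz : (ζ : L) * ζ + ζ + 1 = 0 := by
    have h1 : (ζ : L) ^ 3 = 1 := by rw [← Units.val_pow_eq_pow_val, hζ.pow_eq_one, Units.val_one]
    have h2 : ((ζ : L) - 1) * ((ζ : L) * ζ + ζ + 1) = 0 := by linear_combination h1
    refine (mul_eq_zero.1 h2).resolve_left (sub_ne_zero.2 fun h => hζ.ne_one (by norm_num) ?_)
    exact Units.ext (h.trans Units.val_one.symm)
  refine no_eighteen X ρ hρ ?_ h3 hz fun x hx => ?_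
  · rw [Module.finrank_fintype_fun_eq_card]
    exact (Fintype.card_sum).trans (congrArg₂ (· + ·) (Fintype.card_fin _) (Fintype.card_fin _))
  · rw [hfix]
    exact finrank_fix_three hQ (σ x) (by rw [← map_pow, hx, map_one])

/-- The degree bound. -/
theorem alt_section_E8 {F : Type*} [Field F] [Fintype F] (p : ℕ) [Fact p.Prime] [CharP F p]
    {r : ℕ} {H : Type*} [Group H] [Finite H] (ι : H →* ↥(chevE8.group F))
    (hι : Function.Injective ι) (φ : H →* alternatingGroup (Fin r)) (hφ : Function.Surjective φ) :
    r ≤ 17 + (if p = 3 then 1 else 0) := by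
  by_contra hr
  rw [not_le] at hr
  have hne : ∀ n : ℕ, n.Prime → n ≠ p → (n : F) ≠ 0 := fun n hn hnp h =>
    hnp ((Nat.prime_dvd_prime_iff_eq (Fact.out : p.Prime) hn).1
      ((CharP.cast_eq_zero_iff F p n).1 h)).symm
  by_cases hp : p = 3
  · rw [if_pos hp] at hr
    exact no_pattern_E8_seventeen
      (by simpa using hne 17 (by norm_num) (by omega)) ι hι φ hφ (pattern_seventeen (by omega))
  · rw [if_neg hp] at hr
    haveI : NeZero ((3 : ℕ) : F) := ⟨hne 3 Nat.prime_three (Ne.symm hp)⟩
    obtain ⟨ζ, hζ, hfin⟩ := exists_extension F 3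
    haveI := hfin
    letI := Fintype.ofFinite (CyclotomicField 3 F)
    have h3 : (3 : CyclotomicField 3 F) ≠ 0 := by
      rw [← map_ofNat (algebraMap F (CyclotomicField 3 F)) 3]
      refine (map_ne_zero _).2 ?_
      simpa using hne 3 Nat.prime_three (Ne.symm hp)
    have h18 : 18 ≤ r := by omega
    -- the subgroup over a smaller alternating group
    let S : Subgroup H := Subgroup.comap φ (altEmb h18).range
    let φ' : S →* alternatingGroup (Fin 18) :=
      (MonoidHom.ofInjective (altEmb_injective h18)).symm.toMonoidHom.comp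
        ((φ.comp S.subtype).codRestrict _ fun x => x.2)
    have hφ' : Function.Surjective φ' := fun a => by
      obtain ⟨x, hx⟩ := hφ (altEmb h18 a)
      refine ⟨⟨x, ⟨a, hx.symm⟩⟩, ?_⟩
      apply (MonoidHom.ofInjective (altEmb_injective h18)).injective
      simp only [φ', MonoidHom.comp_apply, MulEquiv.coe_toMonoidHom, MulEquiv.apply_symm_apply]
      exact Subtype.ext hx
    exact no_eighteen_of_root hζ h3
      ((groupMap goodE8.good (algebraMap F (CyclotomicField 3 F))).comp (ι.comp S.subtype))
      ((groupMap_injective goodE8.good _).comp (hι.comp S.subtype_injective)) φ' hφ'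

end CfsgLib.AltSectEight57
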