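import Mathlib.GroupTheory.SpecificGroups.Alternating
import Mathlib.Data.ZMod.Basic
import Mathlib.Algebra.BigOperators.Fin

/-!
# Six blocks of three points: block rotations, monomial permutations and a grid transpose
-/

set_option autoImplicit false

namespace CfsgLib.AltSectEight57

/-- The eighteen points. -/
abbrev Pt : Type := Fin 6 × ZMod 3

/-- Exponent vectors of products of block rotations, and their characters. -/
abbrev V6 : Type := Fin 6 → ZMod 3

/-- A sign. -/
def sg (b : Bool) (t : ZMod 3) : ZMod 3 := if b then -t else t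

@[simp] theorem sg_sg (b : Bool) (t : ZMod 3) : sg b (sg b t) = t := by cases b <;> simp [sg]

theorem sg_add (b : Bool) (s t : ZMod 3) : sg b (s + t) = sg b s + sg b t := by
  cases b <;> simp [sg, add_comm]

theorem sg_mul (b : Bool) (s t : ZMod 3) : sg b s * sg b t = s * t := by cases b <;> simp [sg]

/-- Rotations of the blocks. -/
def rot (v : V6) : Equiv.Perm Pt where
  toFun p := (p.1, p.2 + v p.1)
  invFun p := (p.1, p.2 - v p.1)
  left_inv p := by simp
  right_inv p := by simp

theorem rot_add (u v : V6) : rot (u + v) = rot u * rot v := by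
  ext p <;> simp [rot, add_comm, add_left_comm]

theorem rot_zero : rot 0 = 1 := by
  ext p <;> simp [rot]

/-- A monomial permutation of the blocks. -/
def mono (π : Equiv.Perm (Fin 6)) (f : Fin 6 → Bool) : Equiv.Perm Pt where
  toFun p := (π p.1, sg (f p.1) p.2)
  invFun p := (π.symm p.1, sg (f (π.symm p.1)) p.2)
  left_inv p := by simp
  right_inv p := by simp

/-- The action of a monomial permutation on vectors. -/
def move (π : Equiv.Perm (Fin 6)) (f : Fin 6 → Bool) (v : V6) : V6 :=
  fun j => sg (f (π.symm j)) (v (π.symm j))

theorem mono_mul_rot (π : Equiv.Perm (Fin 6)) (f : Fin 6 → Bool) (v : V6) :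
    mono π f * rot v = rot (move π f v) * mono π f := by
  ext p <;> simp [mono, rot, move, sg_add]

theorem mono_conj_rot (π : Equiv.Perm (Fin 6)) (f : Fin 6 → Bool) (v : V6) :
    mono π f * rot v * (mono π f)⁻¹ = rot (move π f v) := by
  rw [mono_mul_rot, mul_inv_cancel_right]

/-- The pairing of vectors. -/
def dot6 (x v : V6) : ZMod 3 := ∑ i, x i * v i

theorem dot6_move (π : Equiv.Perm (Fin 6)) (f : Fin 6 → Bool) (x v : V6) :
    dot6 (move π f x) (move π f v) = dot6 x v := by
  simp only [dot6, move, sg_mul]
  exact Equiv.sum_comp π.symm fun i => x i * v i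

theorem dot6_add (x u v : V6) : dot6 x (u + v) = dot6 x u + dot6 x v := by
  simp [dot6, mul_add, Finset.sum_add_distrib]

theorem move_bijective (π : Equiv.Perm (Fin 6)) (f : Fin 6 → Bool) :
    Function.Bijective (move π f) := by
  constructor
  · intro u v e
    funext i
    have := congrArg (sg (f i)) (congrFun e (π i))
    simpa [move] using this
  · intro w
    exact ⟨fun i => sg (f i) (w (π i)), funext fun j => by simp [move]⟩

/-- All blocks inverted. -/
def flipAll : Equiv.Perm Pt := mono 1 fun _ => true

theorem flipAll_rot (v : V6) : flipAll * rot v * flipAll⁻¹ = rot (-v) := by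
  rw [flipAll, mono_conj_rot]
  congr 1

theorem flipAll_comm (π : Equiv.Perm (Fin 6)) (f : Fin 6 → Bool) :
    mono π f * flipAll * (mono π f)⁻¹ = flipAll := by
  rw [mul_inv_eq_iff_eq_mul]
  ext p <;> cases hf : f p.1 <;> simp [flipAll, mono, sg, hf]

/-- Inverting two blocks. -/
def flipTwo (i k : Fin 6) : Equiv.Perm Pt := mono 1 fun l => decide (l = i ∨ l = k)

/-- The three-cycle on the first blocks. -/
def blockCycle : Equiv.Perm (Fin 6) :=
  ⟨![1, 2, 0, 3, 4, 5], ![2, 0, 1, 3, 4, 5], by decide, by decide⟩

/-- The permutation of order four on the blocks. -/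
def blockFour : Equiv.Perm (Fin 6) :=
  ⟨![3, 4, 5, 0, 2, 1], ![3, 5, 4, 0, 1, 2], by decide, by decide⟩

/-- The block three-cycle on the points. -/
def tau : Equiv.Perm Pt := mono blockCycle fun _ => false

/-- The grid transpose of the first three blocks, with a flip in the last one. -/
def transFun (p : Pt) : Pt :=
  if p.1.val < 3 then (⟨p.2.val, lt_of_lt_of_le (ZMod.val_lt p.2) (by norm_num)⟩, (p.1.val : ZMod 3))
  else if p.1 = 5 then (p.1, -p.2) else p

theorem transFun_transFun : ∀ p, transFun (transFun p) = p := by decide +kernel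

/-- The transpose as a permutation. -/
def transp : Equiv.Perm Pt := Function.Involutive.toPerm transFun transFun_transFun

/-- The inverter of the block three-cycle. -/
def flipT : Equiv.Perm Pt := transp * flipAll * transp

/-- A weight of full support fixed by the three-cycle. -/
def FixSix (x : V6) : Prop := (∀ i, x i ≠ 0) ∧ x 0 = x 1 ∧ x 1 = x 2

instance (x : V6) : Decidable (FixSix x) := inferInstanceAs (Decidable (_ ∧ _))

/-- The flips making the permutation of order four fix a weight. -/
def twist (x : V6) : Fin 6 → Bool := fun i => decide (x (blockFour i) ≠ x i)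

/-- The element of order four fixing a weight. -/
def four (x : V6) : Equiv.Perm Pt := mono blockFour (twist x)

theorem sign_flipTwo : ∀ i k : Fin 6, i ≠ k → Equiv.Perm.sign (flipTwo i k) = 1 := by decide +kernel

theorem sign_flipAll : Equiv.Perm.sign flipAll = 1 := by decide +kernel

theorem sign_tau : Equiv.Perm.sign tau = 1 := by decide +kernel

theorem sign_transp : Equiv.Perm.sign transp = 1 := by decide +kernel

theorem sign_four : ∀ x : V6, FixSix x → Equiv.Perm.sign (four x) = 1 := by decide +kernel

theorem tau_facts : tau * tau * tau = 1 ∧ flipT * tau * flipT⁻¹ = tau⁻¹ ∧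
    transp * rot ![1, 1, 1, 0, 0, 0] * transp⁻¹ = tau ∧ transp * flipAll * transp⁻¹ = flipT := by
  decide +kernel

theorem four_facts : ∀ x : V6, FixSix x →
    four x * four x * tau * (four x * four x)⁻¹ = tau⁻¹ ∧
      four x * four x * flipT * (four x * four x)⁻¹ = flipT ∧
      flipT * (four x * tau * (four x)⁻¹) * flipT⁻¹ = four x * tau * (four x)⁻¹ ∧
      tau * (four x * tau * (four x)⁻¹) = four x * tau * (four x)⁻¹ * tau ∧
      move blockFour (twist x) x = x := by decide +kernel

end CfsgLib.AltSectEight57
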