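import Mathlib.GroupTheory.Commutator.Basic
import Mathlib.GroupTheory.PGroup
import Mathlib.Tactic.Group

/-!
# Inverted lifts in a central extension by a 3-group

An element of order three inverted by `g₀` has one lift inverted by the lifts of `g₀`: the
commutator of any lifts.
-/

set_option autoImplicit false

namespace CfsgLib.AltSectEight57

open scoped commutatorElement

/-- A surjection with central kernel consisting of 3-elements. -/
structure CentralThree {Q A : Type*} [Group Q] [Group A] (f : Q →* A) : Prop where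
  surj : Function.Surjective f
  central : ∀ z, f z = 1 → ∀ g, g * z = z * g
  three : ∀ z, f z = 1 → ∃ k : ℕ, z ^ 3 ^ k = 1

variable {Q A : Type*} [Group Q] [Group A] {f : Q →* A} (hf : CentralThree f)
include hf

theorem CentralThree.eq_one_of_sq {z : Q} (hz : f z = 1) (h2 : z * z = 1) : z = 1 := by
  obtain ⟨k, hk⟩ := hf.three z hz
  have hodd : (3 ^ k) % 2 = 1 := by rw [Nat.pow_mod]; norm_num
  have e : z ^ 3 ^ k = z := by
    conv_lhs => rw [← Nat.div_add_mod (3 ^ k) 2, hodd, pow_succ, pow_mul, pow_two, h2, one_pow,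
      one_mul]
  rw [← e, hk]

theorem CentralThree.split {x x' : Q} (h : f x = f x') : ∃ z, f z = 1 ∧ x' = x * z :=
  ⟨x⁻¹ * x', by rw [map_mul, map_inv, h, inv_mul_cancel], (mul_inv_cancel_left x x').symm⟩

theorem CentralThree.comm_congr {x x' g g' : Q} (hx : f x = f x') (hg : f g = f g') :
    ⁅g, x⁆ = ⁅g', x'⁆ := by
  obtain ⟨z, hz, rfl⟩ := hf.split hx
  obtain ⟨u, hu, rfl⟩ := hf.split hg
  have hc := hf.central z hz
  have hd := hf.central u hu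
  simp only [commutatorElement_def, mul_inv_rev]
  rw [show g * u * (x * z) * (u⁻¹ * g⁻¹) * (z⁻¹ * x⁻¹) =
    g * (u * (x * z) * u⁻¹) * g⁻¹ * (z⁻¹ * x⁻¹) by group,
    show u * (x * z) * u⁻¹ = x * z by rw [← hd, mul_inv_cancel_right],
    show g * (x * z) * g⁻¹ * (z⁻¹ * x⁻¹) = g * x * (z * g⁻¹ * z⁻¹) * x⁻¹ by group,
    show z * g⁻¹ * z⁻¹ = g⁻¹ by rw [← hc, mul_inv_cancel_right]]

/-- The inverted lift of `v` with respect to `g₀`. -/
noncomputable def CentralThree.lift (v g₀ : A) : Q :=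
  ⁅Function.surjInv hf.surj g₀, Function.surjInv hf.surj v⁆

theorem CentralThree.lift_eq {v g₀ : A} {x g : Q} (hx : f x = v) (hg : f g = g₀) :
    hf.lift v g₀ = ⁅g, x⁆ :=
  hf.comm_congr (by rw [Function.surjInv_eq hf.surj, hx]) (by rw [Function.surjInv_eq hf.surj, hg])

theorem CentralThree.map_lift {v g₀ : A} (h3 : v ^ 3 = 1) (hi : g₀ * v * g₀⁻¹ = v⁻¹) :
    f (hf.lift v g₀) = v := by
  rw [CentralThree.lift, map_commutatorElement, Function.surjInv_eq hf.surj, Function.surjInv_eq hf.surj,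
    commutatorElement_def, hi]
  calc v⁻¹ * v⁻¹ = v⁻¹ * v⁻¹ * v ^ 3 := by rw [h3, mul_one]
    _ = v := by group

theorem CentralThree.conj_lift (v g₀ : A) (s : Q) :
    s * hf.lift v g₀ * s⁻¹ = hf.lift (f s * v * (f s)⁻¹) (f s * g₀ * (f s)⁻¹) := by
  obtain ⟨x, rfl⟩ := hf.surj v
  obtain ⟨g, rfl⟩ := hf.surj g₀
  rw [hf.lift_eq (x := x) (g := g) rfl rfl,
    hf.lift_eq (x := s * x * s⁻¹) (g := s * g * s⁻¹) (by simp) (by simp)]
  simp only [commutatorElement_def]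
  group

theorem CentralThree.inverts {v g₀ : A} {g : Q} (h3 : v ^ 3 = 1)
    (hi : g₀ * v * g₀⁻¹ = v⁻¹) (hg : f g = g₀) :
    g * hf.lift v g₀ * g⁻¹ = (hf.lift v g₀)⁻¹ := by
  obtain ⟨x, hx⟩ := hf.surj v
  have hL := hf.lift_eq hx hg
  have h1 := hf.conj_lift v g₀ g
  rw [hg, hi, mul_inv_cancel_right] at h1
  rw [h1, hf.lift_eq (x := x⁻¹) (g := g) (by rw [map_inv, hx]) hg]
  have hmap : f (hf.lift v g₀) = f x := by rw [hf.map_lift h3 hi, hx]
  obtain ⟨z, hz, e⟩ := hf.split hmap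
  -- `x` commutes with the lift
  have hcomm : x * hf.lift v g₀ = hf.lift v g₀ * x := by
    rw [e, mul_assoc, hf.central z hz]
  rw [hL] at hcomm ⊢
  calc ⁅g, x⁻¹⁆ = x⁻¹ * ⁅g, x⁆⁻¹ * x := by simp [commutatorElement_def, mul_assoc]
    _ = _ := by
      rw [mul_assoc, inv_mul_eq_iff_eq_mul]
      calc ⁅g, x⁆⁻¹ * x = ⁅g, x⁆⁻¹ * (x * ⁅g, x⁆) * ⁅g, x⁆⁻¹ := by group
        _ = x * ⁅g, x⁆⁻¹ := by rw [hcomm]; group

theorem CentralThree.lift_unique {v g₀ : A} {y g : Q} (h3 : v ^ 3 = 1)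
    (hi : g₀ * v * g₀⁻¹ = v⁻¹) (hy : f y = v) (hg : f g = g₀) (hgy : g * y * g⁻¹ = y⁻¹) :
    y = hf.lift v g₀ := by
  have hinv := hf.inverts h3 hi hg
  obtain ⟨z, hz, e⟩ := hf.split ((hf.map_lift h3 hi).trans hy.symm)
  have h1 : g * y * g⁻¹ = (hf.lift v g₀)⁻¹ * z := by
    rw [e, show g * (hf.lift v g₀ * z) * g⁻¹ = g * hf.lift v g₀ * (z * g⁻¹) by group,
      ← hf.central z hz g⁻¹, ← mul_assoc, hinv]
  have h2 : y⁻¹ = (hf.lift v g₀)⁻¹ * z⁻¹ := by
    rw [e, mul_inv_rev, ← hf.central z⁻¹ (by rw [map_inv, hz, inv_one]) (hf.lift v g₀)⁻¹]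
  have this : z * z = 1 :=
    mul_eq_one_iff_eq_inv.2 (mul_left_cancel (h1.symm.trans (hgy.trans h2)))
  rw [e, hf.eq_one_of_sq hz this, mul_one]

theorem CentralThree.lift_inv {v g₀ : A} (h3 : v ^ 3 = 1) (hi : g₀ * v * g₀⁻¹ = v⁻¹) :
    hf.lift v⁻¹ g₀ = (hf.lift v g₀)⁻¹ := by
  obtain ⟨g, hg⟩ := hf.surj g₀
  refine (hf.lift_unique (g := g) (by rw [inv_pow, h3, inv_one]) ?_ ?_ hg ?_).symm
  · rw [show g₀ * v⁻¹ * g₀⁻¹ = (g₀ * v * g₀⁻¹)⁻¹ by group, hi]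
  · rw [map_inv, hf.map_lift h3 hi]
  · rw [show g * (hf.lift v g₀)⁻¹ * g⁻¹ = (g * hf.lift v g₀ * g⁻¹)⁻¹ by group,
      hf.inverts h3 hi hg]

theorem CentralThree.lift_pow_three {v g₀ : A} (h3 : v ^ 3 = 1) (hi : g₀ * v * g₀⁻¹ = v⁻¹) :
    hf.lift v g₀ ^ 3 = 1 := by
  obtain ⟨g, hg⟩ := hf.surj g₀
  have hz : f (hf.lift v g₀ ^ 3) = 1 := by rw [map_pow, hf.map_lift h3 hi, h3]
  refine hf.eq_one_of_sq hz ?_
  have e : g * hf.lift v g₀ ^ 3 * g⁻¹ = (hf.lift v g₀ ^ 3)⁻¹ := by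
    rw [← conj_pow, hf.inverts h3 hi hg, inv_pow]
  rw [hf.central _ hz, mul_inv_cancel_right] at e
  exact mul_eq_one_iff_eq_inv.2 e

/-- Lifts of commuting elements commute when an inverter of one centralises the other. -/
theorem CentralThree.commute_of_inverter {x y : Q} {h₀ : A} (hxy : f x * f y = f y * f x)
    (hx : h₀ * f x * h₀⁻¹ = (f x)⁻¹) (hy : h₀ * f y * h₀⁻¹ = f y) : x * y = y * x := by
  obtain ⟨h, rfl⟩ := hf.surj h₀
  have hz : f ⁅x, y⁆ = 1 := by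
    rw [map_commutatorElement, commutatorElement_eq_one_iff_mul_comm, hxy]
  have e : ⁅x, y⁆ = ⁅x⁻¹, y⁆ := by
    calc ⁅x, y⁆ = h * ⁅x, y⁆ * h⁻¹ := by rw [hf.central _ hz, mul_inv_cancel_right]
      _ = ⁅h * x * h⁻¹, h * y * h⁻¹⁆ := by simp [commutatorElement_def, mul_assoc]
      _ = ⁅x⁻¹, y⁆ := hf.comm_congr (by simpa using hy) (by simpa using hx)
  have e2 : ⁅x⁻¹, y⁆ = ⁅x, y⁆⁻¹ := by
    calc ⁅x⁻¹, y⁆ = x⁻¹ * ⁅x, y⁆⁻¹ * x := by simp [commutatorElement_def, mul_assoc]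
      _ = ⁅x, y⁆⁻¹ := by
        rw [hf.central ⁅x, y⁆⁻¹ (by rw [map_inv, hz, inv_one]) x⁻¹, inv_mul_cancel_right]
  rw [← commutatorElement_eq_one_iff_mul_comm]
  exact hf.eq_one_of_sq hz (mul_eq_one_iff_eq_inv.2 (e.trans e2))

/-- Multiplying the inverter by an element centralising `v` whose commutator lifts trivially. -/
theorem CentralThree.lift_mul {v g₀ c : A} (hc : ∀ x c' : Q, f x = v → f c' = c → c' * x = x * c') :
    hf.lift v (g₀ * c) = hf.lift v g₀ := by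
  obtain ⟨x, hx⟩ := hf.surj v
  obtain ⟨g, hg⟩ := hf.surj g₀
  obtain ⟨c', hc'⟩ := hf.surj c
  rw [hf.lift_eq hx hg, hf.lift_eq (g := g * c') hx (by rw [map_mul, hg, hc'])]
  simp only [commutatorElement_def, mul_inv_rev]
  rw [show g * c' * x * (c'⁻¹ * g⁻¹) * x⁻¹ = g * (c' * x * c'⁻¹) * g⁻¹ * x⁻¹ by group,
    hc x c' hx hc', mul_inv_cancel_right]

/-- Involutions centralising `v` do not change the lift. -/
theorem CentralThree.lift_mul_invol {v g₀ c : A} (hc2 : c * c = 1) (hcv : c * v = v * c) :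
    hf.lift v (g₀ * c) = hf.lift v g₀ := by
  refine hf.lift_mul fun x c' hx hc' => ?_
  have hz : f ⁅c', x⁆ = 1 := by
    rw [map_commutatorElement, commutatorElement_eq_one_iff_mul_comm, hx, hc', hcv]
  have h1 : ⁅c' * c', x⁆ = 1 := by
    rw [hf.comm_congr (x := x) (x' := x) (g := c' * c') (g' := 1) rfl
      (by rw [map_mul, hc', hc2, map_one]), commutatorElement_one_left]
  have e : ⁅c' * c', x⁆ = c' * ⁅c', x⁆ * c'⁻¹ * ⁅c', x⁆ := by
    simp [commutatorElement_def, mul_assoc]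
  rw [h1, hf.central _ hz c', mul_inv_cancel_right] at e
  exact commutatorElement_eq_one_iff_mul_comm.1 (hf.eq_one_of_sq hz e.symm)

end CfsgLib.AltSectEight57
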