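import Cfsg.Agent.AltSectEight57.Semantics
import Cfsg.Agent.AltSectEight57.Blocks
import Cfsg.Agent.Chevalley.WeylData

/-!
# The Sylow 3-subgroup of the Weyl group of E8
-/

set_option autoImplicit false

namespace CfsgLib.AltSectEight57

open Cfsg.Lie CfsgLib.Chevalley CfsgLib.TorusWeyl

/-- The Coxeter matrix of E8 on the nodes of the datum. -/
abbrev M8 : CoxeterMatrix (Fin chevE8.rank) := CoxeterMatrix.E₈

theorem goodE8 : GoodWeyl chevE8 := goodWeyl_of_mem (by simp)

theorem roots8 : Weyl.RootGood (D := chevE8) Weyl.certE8 M8 Weyl.reflTableE8 := Weyl.rootE8_good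

set_option maxHeartbeats 4000000 in
theorem cartan_check : (List.range 240).all (fun r => (List.range 8).all fun k =>
    chevE8.cartan k r == sum8 fun i => (coI r).getD i 0 * ent cm8 k i) = true := by decide +kernel

theorem coI_eq (r : Fin 240) (i : Fin 8) : (coI r).getD i 0 = Weyl.corootAt chevE8 r i := by
  have hs := idCert_shape
  simp only [Cert.shapeOK, Bool.and_eq_true, List.all_eq_true, beq_iff_eq, List.mem_range] at hs
  have h := (hs.2 ((r : ℕ), coI r) (by
    rw [fix_eq]; exact List.mem_map.2 ⟨r, List.mem_range.2 r.isLt, rfl⟩)).2 i i.isLt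
  have hone : (List.range 8).all (fun i => (List.range 8).all fun l =>
      (idCert.U.getD l []).getD i 0 == if l = i then 1 else 0) = true := by decide +kernel
  simp only [List.all_eq_true, List.mem_range, beq_iff_eq] at hone
  have hlen : (coI r).length = 8 := by
    rw [(hs.2 ((r : ℕ), coI r) (by
      rw [fix_eq]; exact List.mem_map.2 ⟨r, List.mem_range.2 r.isLt, rfl⟩)).1, idCert_perm.2.1]
  rw [h]
  have hU := idCert_perm.2.1
  generalize idCert.U = U at hU hone ⊢
  match U, hU, coI r, hlen with
  | [u0, u1, u2, u3, u4, u5, u6, u7], _, [a0, a1, a2, a3, a4, a5, a6, a7], _ =>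
    have o := fun l hl => hone i i.isLt l hl
    have o0 := o 0 (by omega); have o1 := o 1 (by omega); have o2 := o 2 (by omega)
    have o3 := o 3 (by omega); have o4 := o 4 (by omega); have o5 := o 5 (by omega)
    have o6 := o 6 (by omega); have o7 := o 7 (by omega)
    simp only [List.getD_eq_getElem?_getD, List.getElem?_cons_zero, List.getElem?_cons_succ,
      Option.getD_some] at o0 o1 o2 o3 o4 o5 o6 o7
    simp only [rowComb, List.getD_eq_getElem?_getD, o0, o1, o2, o3, o4, o5, o6, o7]
    fin_cases i <;> simp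

theorem cartan_eq8 (k : Fin chevE8.rank) (r : Fin chevE8.nroots) :
    chevE8.cartan k r = ∑ i : Fin chevE8.rank, Weyl.corootAt chevE8 r i * ent cm8 k i := by
  have h := cartan_check
  simp only [List.all_eq_true, List.mem_range, beq_iff_eq] at h
  rw [h r r.isLt k k.isLt, sum8_eq]
  exact Finset.sum_congr rfl fun i _ => by rw [coI_eq (r : Fin 240) i]

/-- The Weyl group elements of the generating words. -/
def genElt (g : Fin 5) : M8.Group :=
  ((genWords.getD g []).map fun i => M8.simple (Fin.ofNat 8 i : Fin chevE8.rank)).prod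

theorem rootPerm_prod : ∀ (w : List ℕ), (∀ i ∈ w, i < 8) → ∀ r : Fin chevE8.nroots,
    ((roots8.rootPerm ((w.map fun i => M8.simple (Fin.ofNat 8 i : Fin chevE8.rank)).prod)) r : ℕ) =
      walk w r := by
  intro w
  induction w with
  | nil => intro _ r; simp [walk, Weyl.rwalk]
  | cons a t ih =>
    intro hw r
    simp only [List.map_cons, List.prod_cons, map_mul, Equiv.Perm.mul_apply]
    refine (roots8.rootPerm_simple_step _ _).trans ?_
    rw [ih fun i hi => hw i (List.mem_cons_of_mem _ hi)]
    show Weyl.rstep _ (a % 8) _ = Weyl.rstep _ a _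
    rw [Nat.mod_eq_of_lt (hw a List.mem_cons_self)]
    rfl

theorem rootPerm_genElt (g : Fin 5) (r : Fin chevE8.nroots) :
    ((roots8.rootPerm (genElt g)) r : ℕ) = pimg (genTabs.getD g 0) r := by
  have h := genWords_ok
  simp only [List.all_eq_true, List.mem_range, Bool.and_eq_true, beq_iff_eq,
    decide_eq_true_eq] at h
  obtain ⟨h1, h2⟩ := h g g.isLt
  rw [genElt, rootPerm_prod _ h1]
  exact h2 r r.isLt

/-- The Sylow 3-subgroup. -/
def W3 : Subgroup M8.Group := Subgroup.closure (Set.range genElt)

/-- An element acting as a listed permutation. -/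
def Lists (w : M8.Group) (k : ℕ) : Prop :=
  ∀ r : Fin chevE8.nroots, ((roots8.rootPerm w) r : ℕ) = pimg (elemTab k) r

theorem lists_step {w : M8.Group} {k : ℕ} (hk : k < 243) (h : Lists w k) (g : Fin 5) :
    stepAt k g < 243 ∧ Lists (genElt g * w) (stepAt k g) := by
  have hs := steps_ok
  simp only [List.all_eq_true, List.mem_range, Bool.and_eq_true, beq_iff_eq,
    decide_eq_true_eq] at hs
  obtain ⟨h1, h2⟩ := hs k hk g g.isLt
  refine ⟨h1, fun r => ?_⟩
  rw [h2 r r.isLt, map_mul, Equiv.Perm.mul_apply, rootPerm_genElt, h r]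

theorem lists_one : Lists 1 0 := fun r => by
  have h := elem_zero
  simp only [List.all_eq_true, List.mem_range, beq_iff_eq] at h
  rw [map_one, Equiv.Perm.one_apply, h r r.isLt]

theorem exists_lists_of_mem {w : M8.Group} (hw : w ∈ W3) : ∃ k < 243, Lists w k := by
  haveI := roots8.finite_group
  have hm : w ∈ Submonoid.closure (Set.range genElt) := by
    rw [← Subgroup.closure_toSubmonoid_of_finite]; exact hw
  induction hm using Submonoid.closure_induction_left with
  | one => exact ⟨0, by omega, lists_one⟩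
  | mul_left x hx y hy ih =>
    obtain ⟨g, rfl⟩ := hx
    obtain ⟨k, hk, hl⟩ := ih (by
      have : y ∈ (W3).toSubmonoid := by
        rw [W3, Subgroup.closure_toSubmonoid_of_finite]; exact hy
      exact this)
    exact ⟨_, lists_step hk hl g⟩

theorem exists_mem_lists : ∀ k < 243, ∃ w ∈ W3, Lists w k := by
  intro k
  induction k using Nat.strong_induction_on with
  | _ k ih =>
  intro hk
  rcases k with _ | k
  · exact ⟨1, one_mem _, lists_one⟩
  have h := pars_ok
  simp only [List.all_eq_true, List.mem_range, Bool.and_eq_true, beq_iff_eq,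
    decide_eq_true_eq] at h
  obtain ⟨⟨h1, h2⟩, h3⟩ := h k (by omega)
  obtain ⟨w, hw, hl⟩ := ih _ h2 (by omega)
  refine ⟨genElt ⟨_, h1⟩ * w, mul_mem (Subgroup.subset_closure ⟨_, rfl⟩) hw, ?_⟩
  have := (lists_step (by omega) hl ⟨_, h1⟩).2
  rwa [h3] at this

theorem simple_lt (i : Fin 8) : chevE8.simple i < chevE8.nroots :=
  goodE8.good.simple_lt i.isLt

theorem lists_unique {w : M8.Group} {a b : ℕ} (ha : a < 243) (hb : b < 243) (h : Lists w a)
    (h' : Lists w b) : a = b := by
  have e : sig8 (elemTab a) = sig8 (elemTab b) := List.map_congr_left fun i hi => by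
    have hs : chevE8.simple i < chevE8.nroots := simple_lt ⟨i, List.mem_range.1 hi⟩
    exact (h ⟨_, hs⟩).symm.trans (h' ⟨_, hs⟩)
  have hn := sigs_nodup
  have := (List.nodup_iff_injective_get.1 hn) (a₁ := ⟨a, by simp [ha]⟩) (a₂ := ⟨b, by simp [hb]⟩)
    (by simpa using e)
  exact congrArg Fin.val this

theorem card_W3 : Nat.card W3 = 243 := by
  haveI := roots8.finite_group
  choose k hk hl using fun w : W3 => exists_lists_of_mem w.2
  refine (Nat.card_eq_of_bijective (fun w => (⟨k w, hk w⟩ : Fin 243)) ⟨fun u v e => ?_,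
    fun j => ?_⟩).trans (Nat.card_fin 243)
  · refine Subtype.ext (roots8.rootPerm_injective (Equiv.ext fun r => Fin.ext ?_))
    rw [hl u r, hl v r, show k u = k v from congrArg Fin.val e]
  · obtain ⟨w, hw, hj⟩ := exists_mem_lists j j.isLt
    exact ⟨⟨w, hw⟩, Fin.ext (lists_unique (hk _) j.isLt (hl _) hj)⟩

/-- An element of order dividing three has a certificate. -/
theorem exists_cert {w : M8.Group} (hw : w ∈ W3) (h3 : w ^ 3 = 1) :
    ∃ C ∈ allCerts, ∀ r : Fin chevE8.nroots, ((roots8.rootPerm w) r : ℕ) = pimg C.perm r := by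
  obtain ⟨k, hk, hl⟩ := exists_lists_of_mem hw
  have h := cases_ok
  simp only [List.all_eq_true, List.mem_range, Bool.or_eq_true, List.any_eq_true, beq_iff_eq,
    bne_iff_ne] at h
  rcases h k hk with ⟨r, hr, hne⟩ | ⟨C, hC, e⟩
  · refine absurd ?_ hne
    have e1 := congrArg (fun u => (roots8.rootPerm u) (⟨r, hr⟩ : Fin chevE8.nroots)) h3
    rw [pow_succ, pow_succ, pow_one] at e1
    simp only [map_mul, map_one, Equiv.Perm.one_apply, Equiv.Perm.mul_apply] at e1
    have e2 := congrArg Fin.val e1
    have f : ∀ x : Fin chevE8.nroots, pimg (elemTab k) x = ((roots8.rootPerm w) x : ℕ) :=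
      fun x => (hl x).symm
    show pimg (elemTab k) (pimg (elemTab k) (pimg (elemTab k)
      ((⟨r, hr⟩ : Fin chevE8.nroots) : ℕ))) = r
    rw [f, f, f]
    exact e2
  · exact ⟨C, hC, fun r => e ▸ hl r⟩

end CfsgLib.AltSectEight57
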