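import Cfsg.Agent.AltSectEight57.Counting
import Cfsg.Agent.AltSectEight57.RealLift
import Mathlib.GroupTheory.Subgroup.Centralizer

/-!
# Six commuting inverted lifts of block rotations
-/

set_option autoImplicit false

namespace CfsgLib.AltSectEight57

open scoped commutatorElement

/-- The even permutations of the eighteen points. -/
abbrev APt : Type := alternatingGroup Pt

/-- An even permutation as an element of the alternating group. -/
def evenEl (p : Equiv.Perm Pt) (h : Equiv.Perm.sign p = 1) : APt :=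
  ⟨p, Equiv.Perm.mem_alternatingGroup.2 h⟩

theorem rot_cube (v : V6) : rot v * rot v * rot v = 1 := by
  rw [← rot_add, ← rot_add, ← rot_zero]
  congr 1
  funext i
  have : ∀ a : ZMod 3, a + a + a = 0 := by decide
  simpa using this (v i)

theorem sign_rot (v : V6) : Equiv.Perm.sign (rot v) = 1 := by
  have h := congrArg Equiv.Perm.sign (rot_cube v)
  rw [map_mul, map_mul, map_one] at h
  rcases Int.units_eq_one_or (Equiv.Perm.sign (rot v)) with e | e
  · exact e
  · rw [e] at h; exact absurd h (by decide)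

/-- A rotation. -/
def rotA (v : V6) : APt := evenEl (rot v) (sign_rot v)

/-- The inversion of all blocks. -/
def flipAllA : APt := evenEl flipAll sign_flipAll

theorem rotA_zero : rotA 0 = 1 := Subtype.ext rot_zero

theorem rotA_add (u v : V6) : rotA (u + v) = rotA u * rotA v := Subtype.ext (rot_add u v)

theorem rotA_neg (v : V6) : rotA (-v) = (rotA v)⁻¹ :=
  eq_inv_of_mul_eq_one_left (by rw [← rotA_add, neg_add_cancel, rotA_zero])

theorem rotA_cube (v : V6) : rotA v ^ 3 = 1 := Subtype.ext (by
  rw [SubgroupClass.coe_pow, pow_succ, pow_two]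
  exact rot_cube v)

theorem rotA_injective : Function.Injective rotA := fun u v e => funext fun i => by
  have := congrArg (fun p : APt => ((p : Equiv.Perm Pt) (i, 0)).2) e
  simpa [rotA, evenEl, rot] using this

theorem flipAllA_inverts (v : V6) : flipAllA * rotA v * flipAllA⁻¹ = (rotA v)⁻¹ := by
  rw [← rotA_neg]
  exact Subtype.ext (flipAll_rot v)

theorem flipTwo_single : ∀ i j k : Fin 6, j ≠ i → j ≠ k →
    move 1 (fun l => decide (l = i ∨ l = k)) (Pi.single j 1 : V6) = Pi.single j 1 ∧
      move 1 (fun l => decide (l = i ∨ l = k)) (Pi.single i 1 : V6) = -Pi.single i 1 := by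
  decide +kernel

theorem exists_third : ∀ i j : Fin 6, ∃ k : Fin 6, k ≠ i ∧ k ≠ j := by decide

variable {Q : Type*} [Group Q] {f : Q →* APt} (hf : CentralThree f)
include hf

/-- The inverted lift of a rotation. -/
noncomputable def CentralThree.bar (v : V6) : Q := hf.lift (rotA v) flipAllA

theorem CentralThree.map_bar (v : V6) : f (hf.bar v) = rotA v :=
  hf.map_lift (rotA_cube v) (flipAllA_inverts v)

theorem CentralThree.bar_zero : hf.bar 0 = 1 := by
  obtain ⟨g, hg⟩ := hf.surj flipAllA
  rw [CentralThree.bar, hf.lift_eq (x := 1) (g := g) (by rw [map_one, rotA_zero]) hg,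
    commutatorElement_one_right]

theorem CentralThree.bar_commute (i j : Fin 6) :
    hf.bar (Pi.single i 1) * hf.bar (Pi.single j 1) =
      hf.bar (Pi.single j 1) * hf.bar (Pi.single i 1) := by
  rcases eq_or_ne j i with rfl | hji
  · rfl
  obtain ⟨k, hki, hkj⟩ := exists_third i j
  obtain ⟨h1, h2⟩ := flipTwo_single i j k hji hkj.symm
  refine hf.commute_of_inverter (h₀ := evenEl (flipTwo i k) (sign_flipTwo i k hki.symm)) ?_ ?_ ?_
  · rw [hf.map_bar, hf.map_bar, ← rotA_add, ← rotA_add, add_comm]
  · rw [hf.map_bar, ← rotA_neg]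
    refine Subtype.ext ?_
    show flipTwo i k * rot _ * (flipTwo i k)⁻¹ = rot _
    rw [flipTwo, mono_conj_rot, h2]
  · rw [hf.map_bar]
    refine Subtype.ext ?_
    show flipTwo i k * rot _ * (flipTwo i k)⁻¹ = rot _
    rw [flipTwo, mono_conj_rot, h1]

theorem CentralThree.bar_add (u v : V6) : hf.bar (u + v) = hf.bar u * hf.bar v := by
  obtain ⟨g, hg⟩ := hf.surj flipAllA
  let Gs : Set Q := Set.range fun i : Fin 6 => hf.bar (Pi.single i 1)
  let Ab : Subgroup Q := Subgroup.closure Gs
  have hc1 : Ab ≤ Subgroup.centralizer Gs := by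
    refine (Subgroup.closure_le _).2 ?_
    rintro _ ⟨i, rfl⟩
    refine Subgroup.mem_centralizer_iff.2 ?_
    rintro _ ⟨j, rfl⟩
    exact hf.bar_commute j i
  have hcomm : ∀ a ∈ Ab, ∀ b ∈ Ab, a * b = b * a := by
    intro a ha b hb
    have hc2 : Ab ≤ Subgroup.centralizer {a} := (Subgroup.closure_le _).2 fun c hc =>
      Subgroup.mem_centralizer_singleton_iff.2 (Subgroup.mem_centralizer_iff.1 (hc1 ha) c hc)
    exact (Subgroup.mem_centralizer_singleton_iff.1 (hc2 hb)).symm
  have hinv : ∀ a ∈ Ab, g * a * g⁻¹ = a⁻¹ := by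
    intro a ha
    induction ha using Subgroup.closure_induction with
    | mem x hx =>
      obtain ⟨i, rfl⟩ := hx
      exact hf.inverts (rotA_cube _) (flipAllA_inverts _) hg
    | one => simp
    | mul x y hx hy ihx ihy =>
      rw [show g * (x * y) * g⁻¹ = g * x * g⁻¹ * (g * y * g⁻¹) by group, ihx, ihy, mul_inv_rev]
      exact hcomm _ (inv_mem hx) _ (inv_mem hy)
    | inv x hx ih => rw [show g * x⁻¹ * g⁻¹ = (g * x * g⁻¹)⁻¹ by group, ih]
  have hmem : ∀ v, hf.bar v ∈ Ab := by
    suffices ∀ v, ∃ y ∈ Ab, f y = rotA v by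
      intro v
      obtain ⟨y, hy, hyv⟩ := this v
      rwa [CentralThree.bar, ← hf.lift_unique (rotA_cube v) (flipAllA_inverts v) hyv hg (hinv y hy)]
    intro v
    have h1 : ∀ i (c : ZMod 3), ∃ y ∈ Ab, f y = rotA (Pi.single i c) := by
      intro i c
      have hc : c = 0 ∨ c = 1 ∨ c = 1 + 1 := by revert c; decide
      have hb : hf.bar (Pi.single i 1) ∈ Ab := Subgroup.subset_closure ⟨i, rfl⟩
      rcases hc with rfl | rfl | rfl
      · exact ⟨1, one_mem _, by rw [map_one, Pi.single_zero, rotA_zero]⟩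
      · exact ⟨_, hb, hf.map_bar _⟩
      · exact ⟨_, mul_mem hb hb, by rw [map_mul, hf.map_bar, ← rotA_add, Pi.single_add]⟩
    rw [← Finset.univ_sum_single v]
    induction (Finset.univ : Finset (Fin 6)) using Finset.induction_on with
    | empty => exact ⟨1, one_mem _, by rw [map_one, Finset.sum_empty, rotA_zero]⟩
    | insert i s hi ih =>
      obtain ⟨y, hy, e⟩ := ih
      obtain ⟨z, hz, e'⟩ := h1 i (v i)
      exact ⟨z * y, mul_mem hz hy, by rw [map_mul, e, e', Finset.sum_insert hi, rotA_add]⟩
  refine (hf.lift_unique (rotA_cube _) (flipAllA_inverts _) ?_ hg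
    (hinv _ (mul_mem (hmem u) (hmem v)))).symm
  rw [map_mul, hf.map_bar, hf.map_bar, rotA_add]

/-- Elements over monomial permutations act monomially. -/
theorem CentralThree.bar_conj {π : Equiv.Perm (Fin 6)} {fl : Fin 6 → Bool} {q : Q}
    (hq : ((f q : APt) : Equiv.Perm Pt) = mono π fl) (v : V6) :
    q * hf.bar v * q⁻¹ = hf.bar (move π fl v) := by
  rw [CentralThree.bar, hf.conj_lift, CentralThree.bar,
    show f q * rotA v * (f q)⁻¹ = rotA (move π fl v) from Subtype.ext (by
      show (f q : Equiv.Perm Pt) * rot v * ((f q : Equiv.Perm Pt))⁻¹ = rot _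
      rw [hq, mono_conj_rot]),
    show f q * flipAllA * (f q)⁻¹ = flipAllA from Subtype.ext (by
      show (f q : Equiv.Perm Pt) * flipAll * ((f q : Equiv.Perm Pt))⁻¹ = flipAll
      rw [hq, flipAll_comm])]

end CfsgLib.AltSectEight57
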