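import Cfsg.Agent.AltSectEight57.Chunk0
import Cfsg.Agent.AltSectEight57.Chunk1
import Cfsg.Agent.AltSectEight57.Chunk2
import Cfsg.Agent.AltSectEight57.Closure
import Mathlib.Data.ZMod.Basic
import Mathlib.Algebra.BigOperators.Fin

/-!
# What the dimension tests say
-/

set_option autoImplicit false

namespace CfsgLib.AltSectEight57

open Cfsg.Lie

theorem res3_eq (a : ℤ) : res3 a = (a : ZMod 3).val := by
  have h := ZMod.val_intCast (n := 3) a
  simp only [Nat.cast_ofNat] at h
  rw [res3, ← h, Int.toNat_natCast]

theorem add3_map {α : Type*} (rows : List α) (f g : α → ZMod 3) :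
    add3 (rows.map fun v => (f v).val) (rows.map fun v => (g v).val) =
      rows.map fun v => (f v + g v).val := by
  induction rows with
  | nil => rfl
  | cons a t ih => simp only [List.map_cons, add3, ih, ZMod.val_add]

/-- The search runs through all combinations. -/
theorem enum3_spec {α : Type*} (rows : List α) (f : List ℕ → Bool) (g : ℕ → α → ZMod 3) :
    ∀ (ls : List ℕ) (h : α → ZMod 3),
      enum3 (ls.map fun l => rows.map fun v => (g l v).val) (rows.map fun v => (h v).val) f = true →
        ∀ x : ℕ → ZMod 3,
          f (rows.map fun v => (h v + (ls.map fun l => x l * g l v).sum).val) = true := by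
  intro ls
  induction ls with
  | nil => intro h he x; simpa [enum3] using he
  | cons l t ih =>
    intro h he x
    simp only [List.map_cons, enum3, Bool.and_eq_true, add3_map] at he
    obtain ⟨e0, e1, e2⟩ := he
    have : ∀ a : ZMod 3, a = 0 ∨ a = 1 ∨ a = 2 := by decide
    rcases this (x l) with e | e | e
    · simpa [e] using ih _ e0 x
    · simpa [e, add_assoc] using ih _ e1 x
    · have e' : ∀ v, h v + g l v + g l v = h v + 2 * g l v := fun v => by ring
      simp only [e'] at e2
      simpa [e, add_assoc] using ih _ e2 x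

/-- The pairing of an integer row with coefficients modulo three. -/
def pairX (v : List ℤ) (k : ℕ) (x : ℕ → ZMod 3) : ZMod 3 :=
  ∑ l ∈ Finset.range k, x l * (v.getD l 0 : ZMod 3)

/-- The meaning of the dimension test. -/
def Cert.Dims (C : Cert) : Prop :=
  ∀ x : ℕ → ZMod 3, (∀ v ∈ C.V, pairX v C.U.length x = 0) →
    (C.U.length + triples C.perm + C.fix.countP fun p => decide (pairX p.2 C.U.length x = 0))
      ∈ dimList

theorem Cert.dims_of_ok {C : Cert} (h : C.ok = true) : C.Dims := by
  simp only [Cert.ok, Bool.and_eq_true] at h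
  obtain ⟨hs, hd⟩ := h
  have hV : C.V.length = 8 := by
    simp only [Cert.shapeOK, Bool.and_eq_true, beq_iff_eq] at hs
    exact hs.1.1.1.1.1.1.1.2
  intro x hx
  let rows := C.V ++ C.fix.map Prod.snd
  have hcols : (List.range C.U.length).map C.col = (List.range C.U.length).map fun l =>
      rows.map fun v => ((v.getD l 0 : ℤ) : ZMod 3).val := by
    refine List.map_congr_left fun l _ => ?_
    simp only [Cert.col, rows, List.map_append, List.map_map, res3_eq]
    rfl
  have hinit : List.replicate (8 + C.fix.length) 0 = rows.map fun _ => (0 : ZMod 3).val := by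
    rw [List.map_const', ZMod.val_zero]
    simp [rows, hV]
  rw [Cert.dimOK, hcols, hinit] at hd
  have := enum3_spec rows C.leaf (fun l v => ((v.getD l 0 : ℤ) : ZMod 3)) _ _ hd x
  have hpair : ∀ v : List ℤ,
      ((List.range C.U.length).map fun l => x l * ((v.getD l 0 : ℤ) : ZMod 3)).sum =
        pairX v C.U.length x := fun v => by
    rw [pairX, ← List.sum_toFinset _ List.nodup_range, List.toFinset_range]
  simp only [zero_add, hpair, rows, List.map_append, List.map_map] at this
  rw [Cert.leaf, List.take_left' (by simp [hV]), List.drop_left' (by simp [hV]),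
    Bool.or_eq_true] at this
  rcases this with h0 | h0
  · simp only [Bool.not_eq_true', List.all_eq_false, List.mem_map] at h0
    obtain ⟨_, ⟨v, hv, rfl⟩, hne⟩ := h0
    simp [hx v hv] at hne
  · rw [List.countP_map, List.contains_iff_mem] at h0
    have heq : (C.fix.countP fun p => decide (pairX p.2 C.U.length x = 0)) =
        C.fix.countP ((fun a : ℕ => a == 0) ∘
          (fun v => (pairX v C.U.length x).val) ∘ Prod.snd) :=
      List.countP_congr fun p _ => by simp [ZMod.val_eq_zero]
    rw [heq]
    exact h0

/-! ### The identity -/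

/-- A vector as a list of residues. -/
def toList3 (y : Fin 8 → ZMod 3) : List ℕ := List.ofFn fun j => (y j).val

/-- The scalar product with a root. -/
def dotI (r : ℕ) (y : Fin 8 → ZMod 3) : ZMod 3 := ∑ j : Fin 8, ((coI r).getD j 0 : ZMod 3) * y j

/-- The reflection of a vector. -/
def reflY (i : Fin 8) (y : Fin 8 → ZMod 3) : Fin 8 → ZMod 3 := fun k =>
  y k - (ent cm8 k i : ZMod 3) * y i

theorem toList3_reflY (i : Fin 8) (y : Fin 8 → ZMod 3) :
    toList3 (reflY i y) = reflX i (toList3 y) := by
  refine List.ext_getElem (by simp [toList3, reflX]) fun k h1 h2 => ?_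
  have hk : k < 8 := by simpa [toList3] using h1
  have hi : (i : ℕ) < 8 := i.isLt
  simp only [toList3, List.getElem_ofFn, reflX, List.getElem_map, List.getElem_range, res3_eq,
    reflY]
  rw [List.getD_eq_getElem _ _ (by rw [List.length_ofFn]; exact hk),
    List.getD_eq_getElem _ _ (by rw [List.length_ofFn]; exact hi)]
  simp only [List.getElem_ofFn, Fin.eta, Int.cast_sub, Int.cast_mul, Int.cast_natCast,
    ZMod.natCast_zmod_val]

theorem mem_vecs3 : ∀ (n : ℕ) (l : List ℕ), l.length = n → (∀ a ∈ l, a < 3) → l ∈ vecs3 n := by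
  intro n
  induction n with
  | zero => intro l hl _; simp [vecs3, List.length_eq_zero_iff.1 hl]
  | succ n ih =>
    intro l hl hb
    obtain ⟨a, t, rfl⟩ : ∃ a t, l = a :: t := by
      cases l with
      | nil => simp at hl
      | cons a t => exact ⟨a, t, rfl⟩
    simp only [vecs3, List.mem_flatMap]
    refine ⟨t, ih t (by simpa using hl) fun x hx => hb x (List.mem_cons_of_mem _ hx), ?_⟩
    have := hb a List.mem_cons_self
    rcases a with _ | _ | _ | a <;> simp
    omega

/-- The simple reflection on root indices. -/
def stepR (i : Fin 8) (r : Fin 240) : Fin 240 :=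
  Fin.ofNat 240 (Weyl.rstep Weyl.reflTableE8 i r)

theorem stepR_val (i : Fin 8) (r : Fin 240) :
    (stepR i r : ℕ) = Weyl.rstep Weyl.reflTableE8 i r := by
  have h : ((Weyl.rootE8_good.rootPerm (CoxeterMatrix.E₈.simple (i : Fin chevE8.rank))
      (r : Fin chevE8.nroots)) : ℕ) = Weyl.rstep Weyl.reflTableE8 i r :=
    Weyl.rootE8_good.rootPerm_simple_step (i : Fin chevE8.rank) (r : Fin chevE8.nroots)
  exact Nat.mod_eq_of_lt (h ▸ (Weyl.rootE8_good.rootPerm _ _).isLt)

theorem stepR_bijective (i : Fin 8) : Function.Bijective (stepR i) := by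
  have e : stepR i = fun r => (Weyl.rootE8_good.rootPerm
      (CoxeterMatrix.E₈.simple (i : Fin chevE8.rank)) (r : Fin chevE8.nroots) : Fin 240) :=
    funext fun r => Fin.ext ((stepR_val i r).trans
      (Weyl.rootE8_good.rootPerm_simple_step (i : Fin chevE8.rank) (r : Fin chevE8.nroots)).symm)
  rw [e]
  exact Equiv.bijective _

theorem sum8_eq (f : ℕ → ℤ) : sum8 f = ∑ j : Fin 8, f j := by
  simp only [sum8, Fin.sum_univ_succ, Fin.sum_univ_zero, add_zero, ← add_assoc]
  rfl

theorem dotI_reflY (i : Fin 8) (r : Fin 240) (y : Fin 8 → ZMod 3) :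
    dotI (stepR i r) y = dotI r (reflY i y) := by
  have h := reflRows_ok
  simp only [reflRows, List.all_eq_true, List.mem_range, beq_iff_eq] at h
  have h' := h r r.isLt i i.isLt
  simp only [dotI, stepR_val, reflY]
  have e : ∀ k : Fin 8, ((coI (Weyl.rstep Weyl.reflTableE8 i r)).getD k 0 : ZMod 3) =
      ((coI r).getD k 0 : ZMod 3) - if i = k then
        ∑ l : Fin 8, ((coI r).getD l 0 : ZMod 3) * (ent cm8 l i : ZMod 3) else 0 := fun k => by
    rw [h' k k.isLt, Int.cast_sub]
    by_cases hik : i = k
    · subst hik
      rw [if_pos rfl, if_pos rfl, sum8_eq]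
      simp
    · rw [if_neg hik, if_neg (fun e => hik (Fin.ext e))]
      simp
  simp only [e, sub_mul, ite_mul, zero_mul, Finset.sum_sub_distrib, Finset.sum_ite_eq,
    Finset.mem_univ, if_true, Finset.sum_mul, mul_sub, ← mul_assoc]

/-- The number of roots orthogonal to a vector. -/
def zeroCount (y : Fin 8 → ZMod 3) : ℕ :=
  (Finset.univ.filter fun r : Fin 240 => dotI r y = 0).card

theorem zeroCount_reflY (i : Fin 8) (y : Fin 8 → ZMod 3) :
    zeroCount (reflY i y) = zeroCount y := by
  refine Finset.card_bij (fun r _ => stepR i r) ?_ (fun a _ b _ e => (stepR_bijective i).1 e) ?_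
  · intro r hr
    simpa [dotI_reflY] using hr
  · intro b hb
    obtain ⟨r, rfl⟩ := (stepR_bijective i).2 b
    exact ⟨r, by simpa [dotI_reflY] using hb, rfl⟩

theorem pairX_eq_dotI (r : ℕ) (x : ℕ → ZMod 3) :
    pairX (coI r) 8 x = dotI r fun j => x j := by
  rw [pairX, dotI, Finset.sum_range]
  exact Finset.sum_congr rfl fun j _ => mul_comm _ _

theorem countP_range_eq (n : ℕ) (p : ℕ → Bool) :
    (List.range n).countP p = (Finset.univ.filter fun r : Fin n => p r = true).card := by
  induction n with
  | zero => simp
  | succ n ih =>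
    rw [List.range_succ, List.countP_append, ih, Finset.card_filter, Finset.card_filter,
      Fin.sum_univ_castSucc]
    simp [List.countP_cons]

theorem fix_eq : idCert.fix = (List.range 240).map fun r => (r, coI r) := by
  obtain ⟨-, -, -, hmap, -⟩ := idCert_perm
  have hlen : idCert.fix.length = 240 := by
    have := congrArg List.length hmap
    rwa [List.length_map, List.length_range] at this
  refine List.ext_getElem (by rw [hlen, List.length_map, List.length_range]) fun k h1 h2 => ?_
  have h3 : (idCert.fix[k]'h1).1 = k := by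
    have := List.getElem_of_eq hmap (i := k) (by rw [List.length_map]; exact h1)
    rwa [List.getElem_map, List.getElem_range] at this
  rw [List.getElem_map, List.getElem_range, coI, List.getD_eq_getElem _ _ h1]
  exact Prod.ext h3 rfl

theorem zeroCount_mem (y : Fin 8 → ZMod 3) : 8 + zeroCount y ∈ dimList := by
  suffices ∀ n y, code3 (toList3 y) = n → 8 + zeroCount y ∈ dimList from this _ y rfl
  intro n
  induction n using Nat.strong_induction_on with
  | _ n ih =>
  intro y hn
  have h := vecs_ok
  rw [List.all_eq_true] at h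
  have h' := h (toList3 y) (mem_vecs3 8 _ (by simp [toList3]) fun a ha => by
    obtain ⟨j, rfl⟩ := List.mem_ofFn.1 ha
    exact ZMod.val_lt _)
  rw [oneLeaf, Bool.or_eq_true] at h'
  rcases h' with h' | h'
  · simp only [lower, List.any_eq_true, List.mem_range, Bool.or_eq_true,
      decide_eq_true_eq] at h'
    obtain ⟨i, hi, h' | ⟨k, hk, h'⟩⟩ := h'
    · rw [← zeroCount_reflY ⟨i, hi⟩]
      refine ih _ ?_ _ rfl
      rw [toList3_reflY, ← hn]
      exact h'
    · rw [← zeroCount_reflY ⟨i, hi⟩, ← zeroCount_reflY ⟨k, hk⟩]
      refine ih _ ?_ _ rfl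
      rw [toList3_reflY, toList3_reflY, ← hn]
      exact h'
  · rw [List.contains_iff_mem] at h'
    have hdot : ∀ (v : List ℤ), v.length = 8 →
        ((dotX v (toList3 y) : ℤ) : ZMod 3) = ∑ j : Fin 8, (v.getD j 0 : ZMod 3) * y j := by
      intro v hv
      match v, hv with
      | [a0, a1, a2, a3, a4, a5, a6, a7], _ =>
        simp [toList3, dotX, List.ofFn_succ, Fin.sum_univ_succ]
    have hlen : ∀ r < 240, (coI r).length = 8 := by
      have hs := idCert_shape
      simp only [Cert.shapeOK, Bool.and_eq_true, List.all_eq_true, beq_iff_eq] at hs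
      intro r hr
      have := (hs.2 (r, coI r) (by rw [fix_eq]; exact List.mem_map.2 ⟨r, List.mem_range.2 hr, rfl⟩)).1
      rw [this, idCert_perm.2.1]
    have e : (idCert.fix.countP fun p => res3 (dotX p.2 (toList3 y)) == 0) = zeroCount y := by
      rw [fix_eq, List.countP_map, countP_range_eq, zeroCount]
      congr 1
      refine Finset.filter_congr fun r _ => ?_
      simp only [Function.comp_apply, beq_iff_eq, res3_eq, ZMod.val_eq_zero,
        hdot _ (hlen r r.isLt), dotI]
    rwa [e] at h'

theorem countP_idCert (x : ℕ → ZMod 3) :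
    ∀ l : List (ℕ × List ℤ), l = (List.range 240).map (fun r => (r, coI r)) →
      l.countP (fun p => decide (pairX p.2 8 x = 0)) = zeroCount fun j => x j := by
  intro l hl
  subst hl
  rw [List.countP_map, countP_range_eq, zeroCount]
  refine congrArg Finset.card (Finset.filter_congr fun r _ => ?_)
  simp only [Function.comp_apply, pairX_eq_dotI, decide_eq_true_eq]

theorem idCert_dims : idCert.Dims := by
  intro x _
  obtain ⟨-, hU, hT, -, -⟩ := idCert_perm
  have h := zeroCount_mem fun j => x j
  have e := countP_idCert x idCert.fix fix_eq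
  generalize idCert.fix = l at e ⊢
  generalize idCert.U.length = k at hU ⊢
  generalize triples idCert.perm = t at hT ⊢
  subst hU hT
  simpa [e] using h

/-- Every certificate is correct. -/
theorem allCerts_spec {C : Cert} (hC : C ∈ allCerts) : C.shapeOK = true ∧ C.Dims := by
  rcases List.mem_cons.1 hC with rfl | hC
  · exact ⟨idCert_shape, idCert_dims⟩
  have h : C.ok = true := by
    rcases List.mem_append.1 hC with h | h
    · exact List.all_eq_true.1 certs1_ok C h
    · exact List.all_eq_true.1 certs2_ok C h
  refine ⟨?_, C.dims_of_ok h⟩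
  simp only [Cert.ok, Bool.and_eq_true] at h
  exact h.1

end CfsgLib.AltSectEight57
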