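import Cfsg.Agent.AltSectEight57.Roots
import Cfsg.Agent.AltSection57.Toral
import Cfsg.Agent.S1035
import Cfsg.Agent.S1065

/-!
# Elements of order three of E8 and elementary sections of its 3-subgroups

A Sylow 3-subgroup lies in the extension of the torus by 243 Weyl group elements when 3 divides
`q - 1`; so fixed spaces of elements of order three have dimension 248, 134, 92, 86 or 80 and
elementary abelian sections of 3-subgroups have order at most `3 ^ 13`.
-/

set_option autoImplicit false
set_option linter.style.haveILetI false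

namespace CfsgLib.AltSectEight57

open Cfsg.Lie CfsgLib.Chevalley CfsgLib.ChevTorus CfsgLib.TorusWeyl CfsgLib.AltSection57
open scoped MatrixGroups

variable {L : Type*} [Field L]

theorem card_torus8 [Fintype L] : Nat.card (torus chevE8 L) = (Fintype.card L - 1) ^ 8 := by
  have h := Cfsg.Agent.S1035.result (F := L) rfl (chevE8, 1) (by simp)
  rw [one_mul] at h
  rw [card_torus goodE8]
  exact h

theorem card_group8 [Fintype L] : Nat.card (chevE8.group L) = Fintype.card L ^ 120 *
    (([2, 8, 12, 14, 18, 20, 24, 30] : List ℕ).map fun d => Fintype.card L ^ d - 1).prod := by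
  rw [Cfsg.Agent.S1065.result rfl]
  simp [mul_assoc]

set_option maxHeartbeats 4000000 in
theorem poincare_mod_check : (List.range 243).all (fun m =>
    ((([2, 8, 12, 14, 18, 20, 24, 30] : List ℕ).map fun d =>
      ((List.range d).map fun i => (3 * m + 1) ^ i % 729).sum % 729).prod *
        ((3 * m + 1) ^ 120 % 729)) % 729 != 0) = true := by decide +kernel

theorem torus_three_part [Fintype L] (h3 : 3 ∣ Fintype.card L - 1) :
    3 ^ (Nat.card (chevE8.group L)).factorization 3 ∣ Nat.card (torus chevE8 L) * 243 := by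
  haveI : Fact (Nat.Prime 3) := ⟨Nat.prime_three⟩
  set Q := Fintype.card L
  have h1 : 1 < Q := Fintype.one_lt_card
  have hg := card_group8 (L := L)
  rw [← prod_geom_sum_mul h1.le] at hg
  rw [card_torus8]
  set O := Q ^ 120 *
    (([2, 8, 12, 14, 18, 20, 24, 30] : List ℕ).map fun d => ∑ i ∈ Finset.range d, Q ^ i).prod
    with hO
  have hg' : Nat.card (chevE8.group L) = (Q - 1) ^ 8 * O := by
    rw [hg, hO]; simp only [List.length_cons, List.length_nil]; ring
  have hu : ¬ 3 ^ 6 ∣ O := by
    rw [← ZMod.natCast_eq_zero_iff]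
    obtain ⟨m, hm⟩ := h3
    have hQ : (Q : ZMod 729) = ((3 * (m % 243) + 1 : ℕ) : ZMod 729) := by
      rw [ZMod.natCast_eq_natCast_iff']
      omega
    intro hz
    have h := poincare_mod_check
    simp only [List.all_eq_true, List.mem_range, bne_iff_ne] at h
    apply h (m % 243) (Nat.mod_lt _ (by norm_num))
    refine Nat.mod_eq_zero_of_dvd ((ZMod.natCast_eq_zero_iff _ 729).1 ?_)
    rw [show (3 : ℕ) ^ 6 = 729 by norm_num] at hz
    simp only [hO, List.map_cons, List.map_nil, List.prod_cons, List.prod_nil, Nat.cast_mul,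
      Nat.cast_pow, Nat.cast_one, ZMod.natCast_mod, Nat.cast_sum, hQ,
      Nat.cast_list_sum, List.map_map, Function.comp_def] at hz ⊢
    have e : ∀ d : ℕ, ((List.range d).map fun i =>
        (((3 * (m % 243) + 1 : ℕ) : ZMod 729)) ^ i).sum =
        ∑ i ∈ Finset.range d, ((3 * (m % 243) + 1 : ℕ) : ZMod 729) ^ i := fun d => by
      rw [← List.sum_toFinset _ List.nodup_range, List.toFinset_range]
    rw [← hz]
    simp only [e]
    ring
  have hO0 : O ≠ 0 := fun e => hu (e ▸ dvd_zero _)
  have hv : O.factorization 3 ≤ 5 := by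
    by_contra hlt
    exact hu ((Nat.Prime.pow_dvd_iff_le_factorization Nat.prime_three hO0).2 (by omega))
  rw [hg', Nat.factorization_mul (pow_ne_zero _ (by omega)) hO0, Finsupp.add_apply, pow_add]
  exact mul_dvd_mul (Nat.ordProj_dvd _ 3) ((pow_dvd_pow 3 hv).trans (by norm_num))

/-- The properties of the Sylow-containing subgroup. -/
structure GoodP3 (P : Subgroup ↥(chevE8.group L)) : Prop where
  full : 3 ^ (Nat.card (chevE8.group L)).factorization 3 ∣ Nat.card P
  le : torus chevE8 L ≤ P
  index : (torus chevE8 L).relIndex P = 243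
  mon : ∀ x ∈ P, ∃ hm : (x : GL chevE8.Idx L) ∈ chevE8.monomialSubgroup L,
    weylHom goodE8 roots8 ⟨_, hm⟩ ∈ W3

theorem exists_goodP3 [Fintype L] (h3 : 3 ∣ Fintype.card L - 1) :
    ∃ P : Subgroup ↥(chevE8.group L), GoodP3 P := by
  haveI : Finite M8.Group := roots8.finite_group
  let N := chevE8.monomialSubgroup L
  let incl : N →* ↥(chevE8.group L) := Subgroup.inclusion (monomial_le_group goodE8)
  let w : N →* M8.Group := weylHom (F := L) goodE8 roots8
  have hker : (torus chevE8 L).comap incl = w.ker := by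
    refine Eq.trans ?_ (ker_weylHom (F := L) goodE8 roots8).symm
    exact Subgroup.ext fun z => Iff.rfl
  set P' := W3.comap w with hP'
  have hle : torus chevE8 L ≤ P'.map incl := by
    intro z hz
    have hzN : (z : GL chevE8.Idx L) ∈ chevE8.monomialSubgroup L :=
      diag_le_monomial _ (Subgroup.mem_subgroupOf.1 hz)
    refine ⟨⟨z, hzN⟩, ?_, Subtype.ext rfl⟩
    show w ⟨z, hzN⟩ ∈ W3
    have : (⟨z, hzN⟩ : N) ∈ w.ker := hker ▸ hz
    rw [MonoidHom.mem_ker.1 this]
    exact one_mem _
  have hidx : (torus chevE8 L).relIndex (P'.map incl) = 243 := by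
    rw [← Subgroup.relIndex_comap, hker, Subgroup.relIndex_ker, hP',
      Subgroup.map_comap_eq_self_of_surjective (weylHom_surjective (F := L) goodE8 roots8), card_W3]
  refine ⟨P'.map incl, ⟨?_, hle, hidx, ?_⟩⟩
  · have e := Subgroup.relIndex_mul_relIndex ⊥ _ _ bot_le hle
    rw [Subgroup.relIndex_bot_left, Subgroup.relIndex_bot_left, hidx] at e
    rw [← e]
    exact torus_three_part h3
  · rintro _ ⟨x, hx, rfl⟩
    exact ⟨x.2, hx⟩

theorem fixSp_conj {ι : Type*} [Fintype ι] [DecidableEq ι] (g x : GL ι L) :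
    Module.finrank L (fixSp (g * x * g⁻¹)) = Module.finrank L (fixSp x) := by
  let e : (ι → L) ≃ₗ[L] (ι → L) :=
    { Matrix.toLin' (g : Matrix ι ι L) with
      invFun := fun v => (↑(g⁻¹) : Matrix ι ι L).mulVec v
      left_inv := fun v => by simp [Matrix.mulVec_mulVec]
      right_inv := fun v => by simp [Matrix.mulVec_mulVec] }
  refine (LinearEquiv.ofSubmodules e (fixSp x) (fixSp (g * x * g⁻¹)) ?_).finrank_eq.symm
  ext v
  simp only [Submodule.mem_map, mem_fixSp, Units.val_mul]
  constructor
  · rintro ⟨u, hu, rfl⟩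
    show ((g : Matrix ι ι L) * (x : Matrix ι ι L) * ((g⁻¹ : GL ι L) : Matrix ι ι L)).mulVec ((g : Matrix ι ι L).mulVec u) =
      (g : Matrix ι ι L).mulVec u
    rw [Matrix.mulVec_mulVec, mul_assoc, mul_assoc, Units.inv_mul, mul_one,
      ← Matrix.mulVec_mulVec, hu]
  · intro hv
    refine ⟨(↑(g⁻¹) : Matrix ι ι L).mulVec v, ?_, e.apply_symm_apply v⟩
    conv_rhs => rw [← hv]
    simp [Matrix.mulVec_mulVec, ← mul_assoc]

/-- A torus character is additive in the coordinates of the root. -/
theorem torVal_co (d : Fin chevE8.rank → Lˣ) (r : Root chevE8) :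
    torVal d (Sum.inr r) =
      ∏ k, d k ^ ∑ i : Fin chevE8.rank, Weyl.corootAt chevE8 r i * ent cm8 k i := by
  simp only [torVal, wt_inr, cartan_eq8]

/-- A monomial element of order three over the Sylow subgroup of the Weyl group. -/
theorem finrank_fix_mon (h3 : (3 : L) ≠ 0) {ζ : Lˣ} (hζ : IsPrimitiveRoot ζ 3)
    (n : ↥(chevE8.monomialSubgroup L)) (hn : weylHom goodE8 roots8 n ∈ W3) (hn3 : n ^ 3 = 1) :
    Module.finrank L (fixSp (n : GL chevE8.Idx L)) ∈ dimList := by
  classical
  haveI : NeZero (3 : ℕ) := ⟨by norm_num⟩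
  set w := weylHom goodE8 roots8 n with hw
  have hw3 : w ^ 3 = 1 := by rw [hw, ← map_pow, hn3, map_one]
  obtain ⟨C, hC, hperm⟩ := exists_cert hn hw3
  obtain ⟨hs, hdims⟩ := allCerts_spec hC
  obtain ⟨c, a, hb, ha⟩ := exists_block goodE8 roots8 n
  rw [← hw] at hb
  set π := roots8.rootPerm w with hπdef
  have hπ : ∀ s, π (π (π s)) = s := fun s => by
    have e : π ^ 3 = 1 := by rw [hπdef, ← map_pow, hw3, map_one]
    rw [pow_succ, pow_succ, pow_one] at e
    exact Equiv.ext_iff.1 e s
  have hprod : ∀ s, a (π (π s)) * a (π s) * a s = 1 := by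
    intro s
    have hb3 := (hb.mul hb).mul hb
    have e : (n : GL chevE8.Idx L) * n * n = 1 := by
      rw [← pow_three', ← Subgroup.coe_pow, hn3, Subgroup.coe_one]
    rw [e] at hb3
    have h1 := hb3.root (Pi.single (Sum.inr s) 1) s
    rw [Units.val_one, Matrix.one_mulVec] at h1
    simp only [map_mul, Equiv.Perm.mul_apply, hπ, Pi.single_eq_same, mul_one, ← hπdef] at h1
    exact h1.symm
  simp only [Cert.shapeOK, Bool.and_eq_true, List.all_eq_true, beq_iff_eq, List.mem_range] at hs
  obtain ⟨⟨⟨⟨⟨⟨⟨⟨sA, sV⟩, sA'⟩, sU⟩, sVl⟩, sN⟩, sVU⟩, sF⟩, sFix⟩ := hs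
  set k := C.U.length with hk
  have hco : ∀ (j : Fin chevE8.rank) i, wMat roots8 w j i =
      Weyl.corootAt chevE8 (π (pRoot goodE8 j)) i := by
    intro j i
    refine Eq.trans ?_ (corootAt_rootPerm roots8 w (pRoot goodE8 j) i).symm
    rw [Finset.sum_eq_single j]
    · rw [show Weyl.corootAt chevE8 (pRoot goodE8 j : Root chevE8) j =
        co chevE8 (pRoot goodE8 j) j from rfl, co_pRoot, if_pos rfl, one_mul]
    · intro l _ hl
      rw [show Weyl.corootAt chevE8 (pRoot goodE8 j : Root chevE8) l =
        co chevE8 (pRoot goodE8 j) l from rfl, co_pRoot, if_neg (Ne.symm hl), zero_mul]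
    · simp
  have hA : ∀ (j i : Fin chevE8.rank), wMat roots8 w j i = ent C.A j i := fun j i => by
    rw [hco, hperm]
    exact sA' j j.isLt i i.isLt
  let U : Fin k → Fin chevE8.rank → ℤ := fun l i => ent C.U l i
  let V : Fin chevE8.rank → Fin k → ℤ := fun j l => ent C.V j l
  have hgU : ∀ l : Fin k, (C.U.getD l []) ∈ C.U := fun l => by
    rw [List.getD_eq_getElem _ _ l.isLt]; exact List.getElem_mem _
  have hU : ∀ l i, ∑ j, wMat roots8 w j i * U l j = U l i := fun l i => by
    have := (sU _ (hgU l)).2 i i.isLt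
    rw [sum8_eq] at this
    simp only [hA]
    exact this
  have hrow : ∀ (as : List ℤ) (us : List (List ℤ)) (i : ℕ), as.length = us.length →
      rowComb as us i = ∑ l : Fin us.length, as.getD l 0 * ent us l i := by
    intro as
    induction as with
    | nil =>
      intro us i hl
      cases us with
      | nil => simp [rowComb]
      | cons u us => simp at hl
    | cons b bs ih =>
      intro us i hl
      cases us with
      | nil => simp at hl
      | cons u us =>
        rw [rowComb, ih us i (by simpa using hl)]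
        conv_rhs => rw [show ∑ l : Fin (u :: us).length, (b :: bs).getD l 0 * ent (u :: us) l i =
          ∑ l : Fin (us.length + 1), (b :: bs).getD l 0 * ent (u :: us) l i from rfl,
          Fin.sum_univ_succ]
        simp [ent]
  have hN : ∀ i j, (if i = j then 1 else 0) + wMat roots8 w j i +
      ∑ l, wMat roots8 w l i * wMat roots8 w j l = ∑ m, V j m * U m i := fun i j => by
    have := sN j j.isLt i i.isLt
    rw [sum8_eq, hrow _ _ _ (sVl _ (by
      rw [List.getD_eq_getElem _ _ (sV.symm ▸ j.isLt)]; exact List.getElem_mem _))] at this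
    simp only [hA]
    rw [show (if i = j then (1 : ℤ) else 0) = if (i : ℕ) = j then 1 else 0 from
      if_congr Fin.ext_iff rfl rfl]
    exact this
  have hVU : ∀ l m, ∑ j, U l j * V j m = if l = m then 3 else 0 := fun l m => by
    have := sVU l l.isLt m m.isLt
    rw [sum8_eq] at this
    rw [show (if l = m then (3 : ℤ) else 0) = if (l : ℕ) = m then 3 else 0 from
      if_congr Fin.ext_iff rfl rfl]
    exact this
  rw [finrank_fix_block hb h3 hπ hprod U V hU hN hVU]
  -- the character on the lattice
  let d := c * c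
  let φ : (Fin chevE8.rank → ℤ) → Lˣ := fun v =>
    ∏ q, d q ^ ∑ i : Fin chevE8.rank, v i * ent cm8 q i
  have φ_add : ∀ u v, φ (u + v) = φ u * φ v := fun u v => by
    simp only [φ, ← Finset.prod_mul_distrib, ← zpow_add, ← Finset.sum_add_distrib, Pi.add_apply,
      add_mul]
  let Φ : (Fin chevE8.rank → ℤ) →+ Additive Lˣ := AddMonoidHom.mk' (fun v => Additive.ofMul (φ v))
    fun u v => by rw [φ_add]; rfl
  have φ_sum : ∀ {ι : Type} [Fintype ι] (z : ι → ℤ) (u : ι → Fin chevE8.rank → ℤ),
      φ (fun i => ∑ l, z l * u l i) = ∏ l, φ (u l) ^ z l := by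
    intro ι _ z u
    have e : (fun i => ∑ l, z l * u l i) = ∑ l, z l • u l := by funext i; simp
    have h := congrArg Additive.toMul (show Φ (∑ l, z l • u l) = ∑ l, z l • Φ (u l) by
      rw [map_sum]; simp only [map_zsmul])
    rw [e]
    exact h.trans (by
      rw [toMul_sum]
      exact Finset.prod_congr rfl fun l _ => toMul_zsmul _ _)
  have hφr : ∀ r : Root chevE8, φ (fun i => Weyl.corootAt chevE8 r i) = torVal d (Sum.inr r) :=
    fun r => by simp only [φ, torVal_co]
  have hd : ∀ s, torVal d (Sum.inr (π (π s))) * torVal d (Sum.inr (π s)) *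
      torVal d (Sum.inr s) = 1 := fun s => Units.ext (by
    rw [Units.val_mul, Units.val_mul, Units.val_one, ← ha, ← ha, ← ha]
    linear_combination (a (π (π s)) * a (π s) * a s + 1) * hprod s)
  have hNcol : ∀ j, φ (fun i => ∑ m, V j m * U m i) = 1 := by
    intro j
    have e : (fun i => ∑ m, V j m * U m i) =
        (fun i : Fin chevE8.rank => Weyl.corootAt chevE8 (pRoot goodE8 j) i) +
        ((fun i : Fin chevE8.rank => Weyl.corootAt chevE8 (π (pRoot goodE8 j)) i) +
          fun i : Fin chevE8.rank => Weyl.corootAt chevE8 (π (π (pRoot goodE8 j))) i) := by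
      funext i
      rw [← hN, Pi.add_apply, Pi.add_apply, ← add_assoc,
        show Weyl.corootAt chevE8 (pRoot goodE8 j : Root chevE8) i =
          co chevE8 (pRoot goodE8 j) i from rfl, co_pRoot, ← hco]
      refine congrArg₂ (· + ·) (congrArg₂ (· + ·) (if_congr eq_comm rfl rfl) rfl) ?_
      refine Eq.trans ?_ (corootAt_rootPerm roots8 w (π (pRoot goodE8 j)) i).symm
      refine Finset.sum_congr rfl fun l _ => ?_
      rw [← hco, mul_comm]
    rw [e, φ_add, φ_add, hφr, hφr, hφr, mul_comm, mul_comm (torVal d (Sum.inr (π (pRoot goodE8 j))))]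
    exact hd _
  have hbasis : ∀ l, φ (U l) ^ 3 = 1 := by
    intro l
    have e : (fun i => ∑ j, U l j * ∑ m, V j m * U m i) = (3 : ℤ) • U l := by
      funext i
      simp only [Finset.mul_sum, ← mul_assoc]
      rw [Finset.sum_comm]
      simp only [← Finset.sum_mul, hVU, ite_mul, zero_mul, Finset.sum_ite_eq, Finset.mem_univ,
        if_true, Pi.smul_apply, smul_eq_mul]
    have h := φ_sum (fun j => U l j) (fun j i => ∑ m, V j m * U m i)
    rw [e] at h
    simp only [hNcol, one_zpow, Finset.prod_const_one] at h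
    have h2 : φ ((3 : ℤ) • U l) = φ (U l) ^ (3 : ℕ) := by
      have := congrArg Additive.toMul (map_zsmul Φ (3 : ℤ) (U l))
      exact this.trans ((toMul_zsmul _ _).trans (zpow_natCast _ 3))
    rw [← h2, h]
  choose xl hxl using fun l => exists_xi hζ (hbasis l)
  let x : ℕ → ZMod 3 := fun l => if h : l < k then xl ⟨l, h⟩ else 0
  have hcomb : ∀ z : List ℤ, φ (fun i => ∑ l : Fin k, z.getD l 0 * U l i) = xi hζ (pairX z k x) := by
    intro z
    rw [φ_sum (fun l : Fin k => z.getD l 0) U, pairX, Finset.sum_range]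
    simp only [← hxl, xi_zpow]
    have : ∀ s : Finset (Fin k), ∏ l ∈ s, xi hζ ((z.getD l 0 : ZMod 3) * xl l) =
        xi hζ (∑ l ∈ s, x l * (z.getD l 0 : ZMod 3)) := by
      intro s
      induction s using Finset.induction_on with
      | empty => simp [xi_zero]
      | insert l s hl ih =>
        rw [Finset.prod_insert hl, Finset.sum_insert hl, xi_add, ih]
        congr 2
        simp only [x, dif_pos l.isLt, Fin.eta, mul_comm]
    exact this Finset.univ
  have hVx : ∀ v ∈ C.V, pairX v k x = 0 := by
    intro v hv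
    obtain ⟨j, hj, rfl⟩ := List.getElem_of_mem hv
    apply xi_injective hζ
    rw [xi_zero, ← hcomb, ← hNcol ⟨j, show j < chevE8.rank from lt_of_lt_of_eq hj sV⟩]
    simp only [V, ent, List.getD_eq_getElem _ _ hj]
  have hfixr : ∀ p ∈ C.fix, ∀ hr : p.1 < chevE8.nroots,
      torVal d (Sum.inr (⟨p.1, hr⟩ : Root chevE8)) = xi hζ (pairX p.2 k x) := by
    intro p hp hr
    refine Eq.trans (hφr _).symm (Eq.trans (congrArg φ (funext fun i => ?_)) (hcomb p.2))
    have h := (sFix p hp).2 i i.isLt
    rw [hrow _ _ _ (sFix p hp).1] at h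
    exact h
  have key : Nat.card {s : Root chevE8 // IsRep π s ∨ (π s = s ∧ a s = 1)} =
      triples C.perm + C.fix.countP fun p => decide (pairX p.2 k x = 0) := by
    have hfixed_nodup : (C.fix.map Prod.fst).Nodup := sF ▸ List.nodup_range.filter _
    rw [Nat.card_eq_fintype_card, Fintype.card_subtype, Finset.filter_or,
      Finset.card_union_of_disjoint]
    · congr 1
      · rw [triples, countP_range_eq]
        refine congrArg Finset.card (Finset.filter_congr fun s _ => ?_)
        have f : ∀ r : Fin chevE8.nroots, pimg C.perm r = (π r : ℕ) := fun r => (hperm r).symm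
        show IsRep π s ↔ _
        rw [Bool.and_eq_true, decide_eq_true_eq, decide_eq_true_eq]
        rw [show pimg C.perm (s : ℕ) = (π s : ℕ) from f s, f]
        rfl
      · rw [List.countP_eq_length_filter, ← List.length_map Prod.fst,
          ← List.toFinset_card_of_nodup ((hfixed_nodup).sublist
            ((List.filter_sublist).map _))]
        refine Finset.card_bij (fun s _ => (s : ℕ)) ?_ (fun s _ t _ e => Fin.ext e) ?_
        · intro s hs
          simp only [Finset.mem_filter, Finset.mem_univ, true_and] at hs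
          have hmem : (s : ℕ) ∈ C.fix.map Prod.fst := by
            rw [sF, fixedRoots, List.mem_filter, List.mem_range, beq_iff_eq, ← hperm s]
            exact ⟨s.isLt, congrArg Fin.val hs.1⟩
          obtain ⟨p, hp, hps⟩ := List.mem_map.1 hmem
          refine List.mem_toFinset.2 (List.mem_map.2 ⟨p, List.mem_filter.2 ⟨hp, ?_⟩, hps⟩)
          rw [decide_eq_true_eq]
          apply xi_injective hζ
          have hp1 : p.1 < chevE8.nroots := hps ▸ s.isLt
          rw [← hfixr p hp hp1, xi_zero, show (⟨p.1, hp1⟩ : Root chevE8) = s from Fin.ext hps]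
          refine Units.ext ?_
          rw [← ha, hs.2, one_mul, Units.val_one]
        · intro r hr
          obtain ⟨p, hp, rfl⟩ := List.mem_map.1 (List.mem_toFinset.1 hr)
          obtain ⟨hp, hpx⟩ := List.mem_filter.1 hp
          have hmem : p.1 ∈ fixedRoots C.perm := sF ▸ List.mem_map_of_mem hp
          rw [fixedRoots, List.mem_filter, List.mem_range, beq_iff_eq] at hmem
          have hp1 : p.1 < chevE8.nroots := hmem.1
          have hfixs : π ⟨p.1, hp1⟩ = ⟨p.1, hp1⟩ := Fin.ext ((hperm _).trans hmem.2)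
          refine ⟨⟨p.1, hp1⟩, Finset.mem_filter.2 ⟨Finset.mem_univ _, hfixs, ?_⟩, rfl⟩
          have h2 := ha ⟨p.1, hp1⟩
          rw [hfixr p hp hp1, of_decide_eq_true hpx, xi_zero, Units.val_one] at h2
          have h3 := hprod ⟨p.1, hp1⟩
          rw [hfixs, hfixs, h2, one_mul] at h3
          exact h3
    · rw [Finset.disjoint_filter]
      exact fun s _ h1 h2 => absurd h1.1 (by rw [h2.1]; exact lt_irrefl s)
  rw [key, ← add_assoc]
  exact hdims x hVx

/-- The fixed space of an element of order dividing three. -/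
theorem finrank_fix_three [Fintype L] (h3 : 3 ∣ Fintype.card L - 1) (x : ↥(chevE8.group L))
    (hx : x ^ 3 = 1) : Module.finrank L (fixSp (x : GL chevE8.Idx L)) ∈ dimList := by
  haveI : Fact (Nat.Prime 3) := ⟨Nat.prime_three⟩
  obtain ⟨P, hP⟩ := exists_goodP3 h3
  obtain ⟨g, hg⟩ := exists_conj_mem hP.full hx
  obtain ⟨hm, hw⟩ := hP.mon _ hg
  haveI := Classical.decEq L
  obtain ⟨ζ, hζ⟩ := IsCyclic.exists_generator (α := Lˣ)
  have hord : orderOf ζ = Fintype.card L - 1 := by
    rw [orderOf_eq_card_of_forall_mem_zpowers hζ, Nat.card_eq_fintype_card, Fintype.card_units]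
  obtain ⟨m, hm'⟩ := h3
  have hm0 : m ≠ 0 := by
    rintro rfl
    have := Fintype.one_lt_card (α := L)
    omega
  have hζ3 : IsPrimitiveRoot (ζ ^ m) 3 :=
    (IsPrimitiveRoot.orderOf ζ).pow (Nat.pos_of_ne_zero (by rw [hord, hm']; omega))
      (by rw [hord, hm', mul_comm])
  have h3L : (3 : L) ≠ 0 := by
    intro e
    have hq : (Fintype.card L : L) = 0 := by
      simp [FiniteField.cast_card_eq_zero]
    have : ((Fintype.card L - 1 : ℕ) : L) = -1 := by
      rw [Nat.cast_sub Fintype.card_pos, hq, Nat.cast_one, zero_sub]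
    rw [hm', Nat.cast_mul, Nat.cast_ofNat, e, zero_mul] at this
    exact one_ne_zero (α := L) (neg_eq_zero.1 this.symm)
  have h := finrank_fix_mon h3L hζ3 ⟨_, hm⟩ hw (Subtype.ext (by
    rw [Subgroup.coe_pow, Subgroup.coe_one]
    show ((g * x * g⁻¹ : ↥(chevE8.group L)) : GL chevE8.Idx L) ^ 3 = 1
    rw [← Subgroup.coe_pow, conj_pow, hx, mul_one, mul_inv_cancel, Subgroup.coe_one]))
  simp only [Subgroup.coe_mul, Subgroup.coe_inv] at h
  rwa [fixSp_conj] at h

end CfsgLib.AltSectEight57
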